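/-
Packed vectors of length nine over the field with four elements.
-/
import Cfsg.Agent.Lib.CosetEnum.GF4Codes
import Cfsg.Prelude.Def_Spor_J3

set_option autoImplicit false
set_option maxRecDepth 100000

namespace CfsgLib.J3

open Matrix CfsgLib.G24 CfsgLib.CosetEnum CfsgLib.CosetEnum.GF4Codes Cfsg.Spor

/-- The number of a coordinate. -/
def idx (z : F9) : ℕ := 3 * z.1.val + z.2.val

/-- The coordinate with a given number. -/
def pt (i : Fin 9) : F9 := ((Fin.ofNat 3 (i.val / 3) : ZMod 3), (Fin.ofNat 3 (i.val % 3) : ZMod 3))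

theorem idx_lt (z : F9) : idx z < 9 := by revert z; decide

theorem pt_idx (z : F9) : pt ⟨idx z, idx_lt z⟩ = z := by revert z; decide

theorem idx_pt (i : Fin 9) : idx (pt i) = i.val := by revert i; decide

/-- The coordinates as numbers. -/
def idxEquiv : F9 ≃ Fin 9 where
  toFun z := ⟨idx z, idx_lt z⟩
  invFun := pt
  left_inv := pt_idx
  right_inv i := Fin.ext (idx_pt i)

/-- One coordinate of a packed vector. -/
noncomputable def cd (v i : ℕ) : ℕ := fld v (Nat.mul (nat_lit 2) i) (nat_lit 2)

/-- The vector of a packed vector. -/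
noncomputable def dec (v : ℕ) : F9 → K := fun z => toK (cd v (idx z))

/-- The low bits of the coordinates. -/
def lowMask : ℕ := 87381

/-- Multiplication of a packed vector by ω. -/
noncomputable def wmul (v : ℕ) : ℕ :=
  force (Nat.land (Nat.shiftRight v (nat_lit 1)) lowMask) fun h => force (Nat.land v lowMask) fun l =>
    Nat.lor (Nat.shiftLeft (Nat.xor h l) (nat_lit 1)) h

/-- Multiplication of a packed vector by a code. -/
noncomputable def smulc (c v : ℕ) : ℕ :=
  Bool.rec
    (Bool.rec (Bool.rec (force (wmul v) wmul) (wmul v) (Nat.beq c (nat_lit 2))) v (Nat.beq c (nat_lit 1)))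
    (nat_lit 0) (Nat.beq c (nat_lit 0))

theorem cd_lt (v i : ℕ) : cd v i < 4 := by
  rw [cd, fld]
  exact Nat.mod_lt _ (by norm_num)

theorem cd_eq (v i : ℕ) : cd v i = 2 * (v.testBit (2 * i + 1)).toNat + (v.testBit (2 * i)).toNat := by
  show (v >>> (2 * i)) % 2 ^ 2 = _
  simp only [Nat.toNat_testBit, Nat.shiftRight_eq_div_pow, pow_succ, ← Nat.div_div_eq_div_mul]
  omega

theorem cd_xor (a b i : ℕ) : cd (a ^^^ b) i = cd a i ^^^ cd b i := by
  show ((a ^^^ b) >>> (2 * i)) % 2 ^ 2 = ((a >>> (2 * i)) % 2 ^ 2) ^^^ ((b >>> (2 * i)) % 2 ^ 2)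
  rw [Nat.shiftRight_xor_distrib, Nat.xor_mod_two_pow]

theorem dec_xor (a b : ℕ) : dec (a ^^^ b) = dec a + dec b := by
  funext z
  rw [Pi.add_apply, dec, dec, dec, cd_xor, toK_xor (cd_lt _ _) (cd_lt _ _)]

theorem cd_wmul (v : ℕ) {i : ℕ} (hi : i < 9) : cd (wmul v) i = mulc 2 (cd v i) := by
  have e : wmul v = ((((v >>> 1) &&& lowMask) ^^^ (v &&& lowMask)) <<< 1) ||| ((v >>> 1) &&& lowMask) := by
    simp only [wmul, force_eq]
    rfl
  have h1 : lowMask.testBit (2 * i) = true := by interval_cases i <;> decide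
  have h2 : lowMask.testBit (2 * i + 1) = false := by interval_cases i <;> decide
  rw [cd_eq, cd_eq, e]
  simp only [Nat.testBit_lor, Nat.testBit_shiftLeft, Nat.testBit_xor, Nat.testBit_land, Nat.testBit_shiftRight,
    h1, h2, Nat.add_sub_cancel, Bool.and_false, Bool.and_true, Bool.or_false]
  have h3 : (decide (1 ≤ 2 * i) && (false : Bool)) = false := by simp
  rcases i with _ | j
  · cases hx : v.testBit 1 <;> cases hy : v.testBit 0 <;> simp [hx, hy, mulc] <;> decide
  · have h4 : lowMask.testBit (2 * (j + 1) - 1) = false := by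
      have : j < 8 := by omega
      interval_cases j <;> decide
    simp only [h4, Bool.and_false, Bool.xor_false, Bool.false_or, Bool.or_self]
    rw [show 1 + 2 * (j + 1) = 2 * (j + 1) + 1 by ring]
    cases v.testBit (2 * (j + 1) + 1) <;> cases v.testBit (2 * (j + 1)) <;> simp [mulc]

theorem cd_zero (i : ℕ) : cd 0 i = 0 := by
  rw [cd_eq]; simp

theorem dec_zero : dec 0 = 0 := by
  funext z
  rw [dec, cd_zero]; rfl

theorem dec_smulc {c : ℕ} (hc : c < 4) (v : ℕ) : dec (smulc c v) = toK c • dec v := by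
  have hw : ∀ u : ℕ, dec (wmul u) = K.w • dec u := fun u => by
    funext z
    rw [Pi.smul_apply, smul_eq_mul, dec, dec, cd_wmul u (idx_lt z), toK_mulc (by norm_num) (cd_lt _ _)]
    rfl
  interval_cases c
  · show dec 0 = _
    rw [dec_zero, show toK 0 = (0 : K) from rfl, zero_smul]
  · show dec v = _
    rw [show toK 1 = (1 : K) from rfl, one_smul]
  · exact hw v
  · show dec (force (wmul v) wmul) = _
    rw [force_eq, hw, hw, smul_smul]
    rfl

theorem dec_injective {a b : ℕ} (ha : a < 2 ^ 18) (hb : b < 2 ^ 18) (h : dec a = dec b) : a = b := by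
  have h' : ∀ i < 9, cd a i = cd b i := fun i hi => by
    have := congrFun h (pt ⟨i, hi⟩)
    rw [dec, dec, idx_pt] at this
    have key : ∀ x < 4, ∀ y < 4, toK x = toK y → x = y := by decide
    exact key _ (cd_lt _ _) _ (cd_lt _ _) this
  refine Nat.eq_of_testBit_eq fun j => ?_
  by_cases hj : j < 18
  · have hji := h' (j / 2) (by omega)
    rw [cd_eq, cd_eq] at hji
    have key : ∀ p q p' q' : Bool, 2 * p.toNat + q.toNat = 2 * p'.toNat + q'.toNat → p = p' ∧ q = q' := by decide
    obtain ⟨h1, h0⟩ := key _ _ _ _ hji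
    rcases Nat.mod_two_eq_zero_or_one j with hm | hm
    · rwa [show 2 * (j / 2) = j by omega] at h0
    · rwa [show 2 * (j / 2) + 1 = j by omega] at h1
  · rw [Nat.testBit_lt_two_pow (lt_of_lt_of_le ha (Nat.pow_le_pow_right (by norm_num) (not_lt.mp hj))),
      Nat.testBit_lt_two_pow (lt_of_lt_of_le hb (Nat.pow_le_pow_right (by norm_num) (not_lt.mp hj)))]

/-- The image of a packed vector, from the columns of a matrix. -/
noncomputable def apC (cols : List ℕ) (v : ℕ) : ℕ :=
  List.rec (motive := fun _ => ℕ → ℕ) (fun _ => nat_lit 0)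
    (fun col _ ih j => force (smulc (cd v j) col) fun a => force (ih (Nat.succ j)) fun b => Nat.xor a b) cols (nat_lit 0)

/-- The matrix with the given columns. -/
noncomputable def matC (cols : List ℕ) : Matrix F9 F9 K := fun z w => dec (cols.getD (idx w) 0) z

theorem dec_apC {cols : List ℕ} (hlen : cols.length = 9) (v : ℕ) : dec (apC cols v) = matC cols *ᵥ dec v := by
  have e : ∀ j, ∀ l : List ℕ, dec (List.rec (motive := fun _ => ℕ → ℕ) (fun _ => nat_lit 0)
      (fun col _ ih j => force (smulc (cd v j) col) fun a => force (ih (Nat.succ j)) fun b => Nat.xor a b) l j) =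
      ∑ i : Fin l.length, toK (cd v (j + i.val)) • dec l[i.val] := by
    intro j l
    induction l generalizing j with
    | nil => simp [dec_zero]
    | cons c l ih =>
      refine Eq.trans ?_ (Fin.sum_univ_succ (fun i : Fin (l.length + 1) => toK (cd v (j + i.val)) • dec (c :: l)[i.val])).symm
      show dec (force (smulc (cd v j) c) fun a => force _ fun b => Nat.xor a b) = _
      rw [force_eq, force_eq]
      show dec (smulc (cd v j) c ^^^ _) = _
      rw [dec_xor, ih, dec_smulc (cd_lt _ _)]
      congr 1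
      refine Finset.sum_congr rfl fun i _ => ?_
      simp [Nat.add_comm, Nat.add_left_comm]
  rw [apC, e 0 cols]
  funext z
  rw [Finset.sum_apply]
  show _ = ∑ w, matC cols z w * dec v w
  rw [← Fintype.sum_equiv (idxEquiv.trans (finCongr hlen.symm)) (fun w => matC cols z w * dec v w)
    (fun i : Fin cols.length => (toK (cd v (0 + i.val)) • dec cols[i.val]) z) fun w => ?_]
  show matC cols z w * dec v w = toK (cd v (0 + idx w)) * dec (cols[idx w]'(hlen.symm ▸ idx_lt w)) z
  rw [Nat.zero_add, mul_comm, matC, List.getD_eq_getElem _ _ (hlen.symm ▸ idx_lt w)]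
  rfl

theorem single_eq (w : F9) : Pi.single w (1 : K) = dec (2 ^ (2 * idx w)) := by
  funext z
  have key : ∀ i < 9, ∀ j < 9, cd (2 ^ (2 * j)) i = if i = j then 1 else 0 := by decide +kernel
  rw [dec, key _ (idx_lt z) _ (idx_lt w)]
  rcases eq_or_ne z w with rfl | h
  · rw [Pi.single_eq_same, if_pos rfl]; rfl
  · rw [Pi.single_eq_of_ne h, if_neg (fun e : idx z = idx w => h (idxEquiv.injective (Fin.ext e)))]; rfl

/-- The image of a packed vector under a word of matrices. -/
noncomputable def runC (Ms : List (List ℕ)) (v : ℕ) : ℕ :=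
  List.rec (motive := fun _ => ℕ) v (fun cols _ ih => force ih (apC cols)) Ms

/-- The product of the matrices is the matrix with the columns `tgt`. -/
noncomputable def okProd (Ms : List (List ℕ)) (tgt : List ℕ) : Bool :=
  (Ms.all fun c => Nat.beq c.length 9) &&
    allN 9 fun j => force (Nat.pow (nat_lit 2) (Nat.mul (nat_lit 2) j)) fun v => Nat.beq (runC Ms v) (tgt.getD j 0)

theorem dec_runC : ∀ Ms : List (List ℕ), (∀ c ∈ Ms, c.length = 9) → ∀ v,
    dec (runC Ms v) = (Ms.map matC).prod *ᵥ dec v := by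
  intro Ms
  induction Ms with
  | nil => intro _ v; simp [runC]
  | cons c Ms ih =>
    intro h v
    show dec (force (runC Ms v) (apC c)) = _
    rw [force_eq, dec_apC (h c List.mem_cons_self), ih (fun d hd => h d (List.mem_cons_of_mem _ hd)),
      List.map_cons, List.prod_cons, Matrix.mulVec_mulVec]

theorem prod_matC {Ms : List (List ℕ)} {tgt : List ℕ} (h : okProd Ms tgt = true) :
    (Ms.map matC).prod = matC tgt := by
  simp only [okProd, Bool.and_eq_true, List.all_eq_true] at h
  obtain ⟨hlen, hpts⟩ := h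
  refine Matrix.ext_of_mulVec_single fun w => ?_
  have hw := allN_spec hpts (idx w) (idx_lt w)
  rw [force_eq] at hw
  conv_lhs => rw [single_eq w]
  rw [← dec_runC Ms (fun c hc => Nat.eq_of_beq_eq_true (hlen c hc))]
  rw [show Nat.pow 2 (Nat.mul 2 (idx w)) = 2 ^ (2 * idx w) from rfl] at hw
  rw [Nat.eq_of_beq_eq_true hw]
  funext z
  rw [Matrix.mulVec_single_one]
  rfl

/-- The columns of the unit matrix. -/
def oneCols : List ℕ := [1, 4, 16, 64, 256, 1024, 4096, 16384, 65536]

theorem matC_one : matC oneCols = 1 := by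
  funext z w
  have key : ∀ j < 9, oneCols.getD j 0 = 2 ^ (2 * j) := by decide
  rw [matC, key _ (idx_lt w), ← single_eq, Matrix.one_apply, Pi.single_apply]

theorem smul_matC {c : ℕ} (hc : c < 4) {cols : List ℕ} (hlen : cols.length = 9) :
    matC (cols.map (smulc c)) = toK c • matC cols := by
  funext z w
  rw [Matrix.smul_apply, matC, matC, List.getD_eq_getElem _ _ (by simpa [hlen] using idx_lt w), List.getElem_map,
    dec_smulc hc, List.getD_eq_getElem _ _ (hlen.symm ▸ idx_lt w), Pi.smul_apply]

end CfsgLib.J3
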