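/-
The triple cover of the third Janko group is generated by four involutions and the scalars.
-/
import Cfsg.Agent.Lib.J3.Packed
import Cfsg.Agent.Lib.J3.Data

set_option autoImplicit false
set_option maxRecDepth 1000000

namespace CfsgLib.J3

open Matrix CfsgLib.G24 CfsgLib.CosetEnum CfsgLib.CosetEnum.GF4Codes Cfsg.Spor

/-- The columns of an involution. -/
def mcols (x : ℕ) : List ℕ := colsM.getD x oneCols

/-- The inverse of a nonzero code. -/
def cinv (c : ℕ) : ℕ := [0, 1, 3, 2].getD c 0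

theorem mcols_default {x : ℕ} (hx : ¬ x < 4) : mcols x = oneCols :=
  List.getD_eq_default _ _ (show colsM.length ≤ x from not_lt.mp hx)

theorem matM_sq (x : ℕ) : matC (mcols x) * matC (mcols x) = 1 := by
  by_cases hx : x < 4
  · have h : ∀ y < 4, okProd [mcols y, mcols y] oneCols = true := by decide +kernel
    have := prod_matC (h x hx)
    simpa [matC_one] using this
  · rw [mcols_default hx, matC_one, one_mul]

/-- An involution. -/
noncomputable def el (x : ℕ) : GL F9 K :=
  ⟨matC (mcols x), matC (mcols x), matM_sq x, matM_sq x⟩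

theorem el_sq (x : ℕ) : el x * el x = 1 := Units.ext (matM_sq x)

theorem coe_prod : ∀ w : List ℕ,
    (((w.map el).prod : GL F9 K) : Matrix F9 F9 K) = ((w.map mcols).map matC).prod := by
  intro w
  induction w with
  | nil => simp
  | cons x w ih =>
    simp only [List.map_cons, List.prod_cons, Units.val_mul, ih]
    rfl

/-- A scalar matrix. -/
noncomputable def scal (a : K) : GL F9 K :=
  if h : a = 0 then 1 else Units.map (Matrix.scalar F9).toMonoidHom (Units.mk0 a h)

theorem coe_scal {a : K} (h : a ≠ 0) : ((scal a : GL F9 K) : Matrix F9 F9 K) = a • (1 : Matrix F9 F9 K) := by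
  rw [scal, dif_neg h]
  show Matrix.scalar F9 a = _
  rw [Matrix.smul_one_eq_diagonal]
  rfl

theorem scal_comm (a : K) (g : GL F9 K) : scal a * g = g * scal a := by
  by_cases h : a = 0
  · rw [scal, dif_pos h, one_mul, mul_one]
  · refine Units.ext ?_
    rw [Units.val_mul, Units.val_mul, coe_scal h, Matrix.smul_mul, Matrix.mul_smul, one_mul, mul_one]

theorem scal_mul {a b : K} (ha : a ≠ 0) (hb : b ≠ 0) : scal (a * b) = scal a * scal b := by
  refine Units.ext ?_
  rw [Units.val_mul, coe_scal ha, coe_scal hb, coe_scal (mul_ne_zero ha hb), Matrix.smul_mul, one_mul, smul_smul]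

/-- A word with a scalar. -/
noncomputable def uWord (p : List ℕ × ℕ) : GL F9 K := scal (toK p.2) * (p.1.map el).prod

/-- A defining matrix as a unit. -/
noncomputable def uG (n : ℕ) : GL F9 K := uWord (wordsG.getD n ([], 1))

theorem wordsG_ok : ∀ n < 45, (Nat.blt 0 (wordsG.getD n ([], 1)).2 && Nat.blt (wordsG.getD n ([], 1)).2 4 &&
    okProd ((wordsG.getD n ([], 1)).1.map mcols) ((colsG.getD n oneCols).map (smulc (cinv (wordsG.getD n ([], 1)).2))) &&
    Nat.beq (colsG.getD n oneCols).length 9) = true := by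
  decide +kernel

theorem toK_cinv : ∀ c < 4, 0 < c → toK c * toK (cinv c) = 1 ∧ toK c ≠ 0 ∧ cinv c < 4 := by decide

theorem smul_back {c : ℕ} (h0 : 0 < c) (h4 : c < 4) {tgt : List ℕ} (hlen : tgt.length = 9) :
    toK c • matC (tgt.map (smulc (cinv c))) = matC tgt := by
  rw [smul_matC (toK_cinv c h4 h0).2.2 hlen, smul_smul, (toK_cinv c h4 h0).1, one_smul]

theorem coe_uG {n : ℕ} (hn : n < 45) : ((uG n : GL F9 K) : Matrix F9 F9 K) = matC (colsG.getD n oneCols) := by
  have h := wordsG_ok n hn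
  simp only [Bool.and_eq_true, blt_iff] at h
  obtain ⟨⟨⟨h0, h4⟩, hp⟩, hlen⟩ := h
  rw [uG, uWord, Units.val_mul, coe_prod, coe_scal (toK_cinv _ h4 h0).2.1, prod_matC hp, Matrix.smul_mul, one_mul,
    smul_back h0 h4 (Nat.eq_of_beq_eq_true hlen)]

theorem bridgeA : ∀ Z : F9, ∀ p : F9 × F9, matC (colsG.getD (idx Z) oneCols) p.1 p.2 = (j3A K K.w Z) p.1 p.2 := by
  decide +kernel

theorem bridgeE : ∀ Z : F9, ∀ p : F9 × F9, matC (colsG.getD (9 + idx Z) oneCols) p.1 p.2 = (j3E K K.w Z) p.1 p.2 := by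
  decide +kernel

theorem bridgeD : ∀ Z : F9, ∀ p : F9 × F9, matC (colsG.getD (18 + idx Z) oneCols) p.1 p.2 = (j3D K K.w Z) p.1 p.2 := by
  decide +kernel

theorem bridgeB : ∀ Z : F9, Z ≠ 0 → ∀ p : F9 × F9, matC (colsG.getD (27 + idx Z) oneCols) p.1 p.2 = (j3B K Z) p.1 p.2 := by
  decide +kernel

theorem bridgeC : ∀ Z : F9, Z ≠ 0 → ∀ p : F9 × F9, matC (colsG.getD (36 + idx Z) oneCols) p.1 p.2 = (j3C K Z) p.1 p.2 := by
  decide +kernel

theorem bridge : (∀ Z : F9, matC (colsG.getD (idx Z) oneCols) = j3A K K.w Z) ∧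
    (∀ Z : F9, matC (colsG.getD (9 + idx Z) oneCols) = j3E K K.w Z) ∧
    (∀ Z : F9, matC (colsG.getD (18 + idx Z) oneCols) = j3D K K.w Z) ∧
    (∀ Z : F9, Z ≠ 0 → matC (colsG.getD (27 + idx Z) oneCols) = j3B K Z) ∧
    ∀ Z : F9, Z ≠ 0 → matC (colsG.getD (36 + idx Z) oneCols) = j3C K Z := by
  exact ⟨fun Z => Matrix.ext fun z w => bridgeA Z (z, w), fun Z => Matrix.ext fun z w => bridgeE Z (z, w), fun Z => Matrix.ext fun z w => bridgeD Z (z, w),
    fun Z h => Matrix.ext fun z w => bridgeB Z h (z, w), fun Z h => Matrix.ext fun z w => bridgeC Z h (z, w)⟩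

theorem uG_A (Z : F9) : ((uG (idx Z) : GL F9 K) : Matrix F9 F9 K) = j3A K K.w Z := by
  rw [coe_uG (by have := idx_lt Z; omega), bridge.1]

theorem uG_D (Z : F9) : ((uG (18 + idx Z) : GL F9 K) : Matrix F9 F9 K) = j3D K K.w Z := by
  rw [coe_uG (by have := idx_lt Z; omega), bridge.2.2.1]

theorem uG_mem {n : ℕ} (hn : n < 45) (hB : n ≠ 27 ∧ n ≠ 36) : uG n ∈ threeJ3 K K.w := by
  refine Subgroup.subset_closure ?_
  show ((uG n : GL F9 K) : Matrix F9 F9 K) ∈ j3Gens K K.w
  rw [coe_uG hn]
  have e : n = 9 * (n / 9) + idx (pt ⟨n % 9, Nat.mod_lt _ (by norm_num)⟩) := by rw [idx_pt]; simp; omega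
  set Z := pt ⟨n % 9, Nat.mod_lt _ (by norm_num)⟩ with hZ
  have hz : n / 9 = 3 ∨ n / 9 = 4 → Z ≠ 0 := by
    intro h hz
    have : idx Z = 0 := by rw [hz]; rfl
    omega
  have hk : n / 9 < 5 := by omega
  rcases Nat.lt_or_ge (n / 9) 1 with h | h1
  · rw [e, show 9 * (n / 9) = 0 by omega, Nat.zero_add, bridge.1]
    exact Or.inl (Or.inl (Or.inl (Or.inl ⟨Z, rfl⟩)))
  rcases Nat.lt_or_ge (n / 9) 2 with h | h2
  · rw [e, show 9 * (n / 9) = 9 by omega, bridge.2.1]
    exact Or.inl (Or.inl (Or.inl (Or.inr ⟨Z, rfl⟩)))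
  rcases Nat.lt_or_ge (n / 9) 3 with h | h3
  · rw [e, show 9 * (n / 9) = 18 by omega, bridge.2.2.1]
    exact Or.inl (Or.inl (Or.inr ⟨Z, rfl⟩))
  rcases Nat.lt_or_ge (n / 9) 4 with h | h4
  · rw [e, show 9 * (n / 9) = 27 by omega, bridge.2.2.2.1 Z (hz (Or.inl (by omega)))]
    exact Or.inl (Or.inr ⟨Z, hz (Or.inl (by omega)), rfl⟩)
  · rw [e, show 9 * (n / 9) = 36 by omega, bridge.2.2.2.2 Z (hz (Or.inr (by omega)))]
    exact Or.inr ⟨Z, hz (Or.inr (by omega)), rfl⟩

theorem scal_v_mem : scal K.v ∈ threeJ3 K K.w := by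
  have h : okProd [colsG.getD 1 oneCols, colsG.getD 9 oneCols] ((colsG.getD 10 oneCols).map (smulc 3)) = true := by
    decide +kernel
  have e : scal K.v * uG 10 = uG 1 * uG 9 := by
    refine Units.ext ?_
    rw [Units.val_mul, Units.val_mul, coe_uG (by norm_num), coe_uG (by norm_num), coe_uG (by norm_num),
      coe_scal (by decide), Matrix.smul_mul, one_mul]
    have := prod_matC h
    rw [smul_matC (by norm_num) (by decide)] at this
    simpa [show toK 3 = K.v from rfl] using this.symm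
  rw [eq_mul_inv_of_mul_eq e]
  exact mul_mem (mul_mem (uG_mem (by norm_num) (by norm_num)) (uG_mem (by norm_num) (by norm_num)))
    (inv_mem (uG_mem (by norm_num) (by norm_num)))

theorem scal_mem (a : K) : scal a ∈ threeJ3 K K.w := by
  cases a
  · rw [show K.o = (0 : K) from rfl, scal, dif_pos rfl]; exact one_mem _
  · have : scal K.i = 1 := Units.ext (by rw [coe_scal (by decide)]; exact one_smul _ _)
    rw [this]; exact one_mem _
  · rw [show K.w = K.v * K.v from rfl, scal_mul (by decide) (by decide)]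
    exact mul_mem scal_v_mem scal_v_mem
  · exact scal_v_mem

theorem wordsM_ok : ∀ x < 4, (Nat.blt 0 (wordsM.getD x ([], 1)).2 && Nat.blt (wordsM.getD x ([], 1)).2 4 &&
    okProd ((wordsM.getD x ([], 1)).1.map fun n => colsG.getD n oneCols)
      ((mcols x).map (smulc (cinv (wordsM.getD x ([], 1)).2))) &&
    Nat.beq (mcols x).length 9 &&
    ((wordsM.getD x ([], 1)).1.all fun n => Nat.blt n 45 && !(Nat.beq n 27) && !(Nat.beq n 36))) = true := by
  decide +kernel

theorem el_mem (x : ℕ) : el x ∈ threeJ3 K K.w := by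
  by_cases hx : x < 4
  swap
  · rw [show el x = 1 from Units.ext (by show matC (mcols x) = 1; rw [mcols_default hx, matC_one])]
    exact one_mem _
  have h := wordsM_ok x hx
  simp only [Bool.and_eq_true, List.all_eq_true, blt_iff, Bool.not_eq_true'] at h
  obtain ⟨⟨⟨⟨h0, h4⟩, hp⟩, hlen⟩, hw⟩ := h
  set p := wordsM.getD x ([], 1) with hpdef
  have e : el x = scal (toK p.2) * (p.1.map uG).prod := by
    refine Units.ext ?_
    rw [Units.val_mul, coe_scal (toK_cinv _ h4 h0).2.1, Matrix.smul_mul, one_mul]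
    have e2 : (((p.1.map uG).prod : GL F9 K) : Matrix F9 F9 K) =
        ((p.1.map fun n => colsG.getD n oneCols).map matC).prod := by
      rw [← Units.coeHom_apply, map_list_prod, List.map_map, List.map_map]
      exact congrArg List.prod (List.map_congr_left fun n hn => coe_uG (hw n hn).1.1)
    rw [e2, prod_matC hp, smul_back h0 h4 (Nat.eq_of_beq_eq_true hlen)]
    rfl
  rw [e]
  refine mul_mem (scal_mem _) (Subgroup.list_prod_mem _ fun a ha => ?_)
  obtain ⟨n, hn, rfl⟩ := List.mem_map.mp ha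
  obtain ⟨⟨hn45, h27⟩, h36⟩ := hw n hn
  exact uG_mem hn45 ⟨Nat.ne_of_beq_eq_false h27, Nat.ne_of_beq_eq_false h36⟩

/-- A subgroup containing the involutions and the scalars contains the triple cover. -/
theorem le_of_mem {S : Subgroup (GL F9 K)} (hel : ∀ x, el x ∈ S) (hsc : ∀ a, scal a ∈ S) :
    threeJ3 K K.w ≤ S := by
  have hu : ∀ n, uG n ∈ S := fun n => mul_mem (hsc _) (Subgroup.list_prod_mem _ fun a ha => by
    obtain ⟨x, -, rfl⟩ := List.mem_map.mp ha
    exact hel x)
  rw [threeJ3, Subgroup.closure_le]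
  intro g hg
  obtain ⟨hA, hE, hD, hB, hC⟩ := bridge
  have key : ∀ n, n < 45 → (g : Matrix F9 F9 K) = matC (colsG.getD n oneCols) → g ∈ S := fun n hn e => by
    rw [show g = uG n from Units.ext (e.trans (coe_uG hn).symm)]
    exact hu n
  have hlt := idx_lt
  rcases hg with (((⟨Z, e⟩ | ⟨Z, e⟩) | ⟨Z, e⟩) | ⟨Z, hZ, e⟩) | ⟨Z, hZ, e⟩
  · exact key (idx Z) (by have := hlt Z; omega) (by rw [hA, ← e])
  · exact key (9 + idx Z) (by have := hlt Z; omega) (by rw [hE, ← e])
  · exact key (18 + idx Z) (by have := hlt Z; omega) (by rw [hD, ← e])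
  · exact key (27 + idx Z) (by have := hlt Z; omega) (by rw [hB Z hZ, ← e])
  · exact key (36 + idx Z) (by have := hlt Z; omega) (by rw [hC Z hZ, ← e])

theorem exists_word {g : GL F9 K} (hg : g ∈ threeJ3 K K.w) :
    ∃ a : K, a ≠ 0 ∧ ∃ w : List ℕ, (∀ x ∈ w, x < 4) ∧ g = scal a * (w.map el).prod := by
  let S : Subgroup (GL F9 K) :=
    { carrier := {g | ∃ a : K, a ≠ 0 ∧ ∃ w : List ℕ, (∀ x ∈ w, x < 4) ∧ g = scal a * (w.map el).prod}
      one_mem' := ⟨1, one_ne_zero, [], by simp, by
        refine Units.ext ?_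
        rw [List.map_nil, List.prod_nil, mul_one, coe_scal one_ne_zero, one_smul]
        rfl⟩
      mul_mem' := by
        rintro g h ⟨a, ha, w, hw, rfl⟩ ⟨b, hb, u, hu, rfl⟩
        refine ⟨a * b, mul_ne_zero ha hb, w ++ u, fun x hx => ?_, ?_⟩
        · rcases List.mem_append.mp hx with hx | hx
          · exact hw x hx
          · exact hu x hx
        rw [List.map_append, List.prod_append, scal_mul ha hb]
        rw [show scal a * (w.map el).prod * (scal b * (u.map el).prod) =
          scal a * ((w.map el).prod * scal b) * (u.map el).prod by group, ← scal_comm b]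
        group
      inv_mem' := by
        rintro g ⟨a, ha, w, hw, rfl⟩
        refine ⟨a⁻¹, inv_ne_zero ha, w.reverse, fun x hx => hw x (List.mem_reverse.mp hx), ?_⟩
        rw [_root_.mul_inv_rev, CosetEnum.prod_reverse_inv el el_sq, scal_comm]
        refine congrArg (fun t : GL F9 K => (w.map el).prod⁻¹ * t) (inv_eq_of_mul_eq_one_right ?_)
        refine Units.ext ?_
        rw [← scal_mul ha (inv_ne_zero ha), mul_inv_cancel₀ ha, coe_scal one_ne_zero, one_smul]
        rfl }
  refine le_of_mem (S := S) (fun x => ?_) (fun a => ?_) hg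
  · by_cases hx : x < 4
    · refine ⟨1, one_ne_zero, [x], by simpa using hx, ?_⟩
      refine Units.ext ?_
      rw [Units.val_mul, coe_scal one_ne_zero, one_smul, one_mul]
      simp
    · refine ⟨1, one_ne_zero, [], by simp, Units.ext ?_⟩
      rw [Units.val_mul, coe_scal one_ne_zero, one_smul, one_mul, List.map_nil, List.prod_nil]
      show matC (mcols x) = 1
      rw [mcols_default hx, matC_one]
  · by_cases ha : a = 0
    · refine ⟨1, one_ne_zero, [], by simp, ?_⟩
      rw [scal, dif_pos ha, List.map_nil, List.prod_nil, mul_one]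
      exact (Units.ext (by rw [coe_scal one_ne_zero, one_smul]; rfl)).symm
    · exact ⟨a, ha, [], by simp, by simp⟩

end CfsgLib.J3
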