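/-
The third Janko group as a matrix group is the presented group.
-/
import Cfsg.Agent.Lib.J3.Matrices
import Cfsg.Agent.Lib.CosetEnum.J3Group

set_option autoImplicit false
set_option maxRecDepth 1000000

namespace CfsgLib.J3

open Matrix CfsgLib.G24 CfsgLib.CosetEnum CfsgLib.CosetEnum.GF4Codes Cfsg.Spor

/-- The triple cover over the computable field. -/
abbrev T3 : Subgroup (GL F9 K) := threeJ3 K K.w

/-- An involution in the triple cover. -/
noncomputable def elT (x : ℕ) : T3 := ⟨el x, el_mem x⟩

theorem scal_central {a : K} (h : scal a ∈ T3) : (⟨scal a, h⟩ : T3) ∈ Subgroup.center T3 :=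
  Subgroup.mem_center_iff.mpr fun g => Subtype.ext (scal_comm a g).symm

theorem trans_ne_zero : ∀ z : F9, j3D K K.w z z 0 ≠ 0 := by decide +kernel

theorem eq_scal_of_commute {g : GL F9 K} (hA : ∀ Z, Commute g (uG (idx Z)))
    (hD : ∀ Z, Commute g (uG (18 + idx Z))) : ∃ a : K, a ≠ 0 ∧ g = scal a := by
  set M : Matrix F9 F9 K := (g : Matrix F9 F9 K)
  have hA' : ∀ Z, M * j3A K K.w Z = j3A K K.w Z * M := fun Z => by
    rw [← uG_A Z]
    exact congrArg Units.val (hA Z).eq
  have hD' : ∀ Z, M * j3D K K.w Z = j3D K K.w Z * M := fun Z => by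
    rw [← uG_D Z]
    exact congrArg Units.val (hD Z).eq
  have sep : ∀ p : F9 × F9, p.1 ≠ p.2 →
      ∃ Z : F9, omegaPow K K.w (Z.1 * p.1.1 + Z.2 * p.1.2) ≠ omegaPow K K.w (Z.1 * p.2.1 + Z.2 * p.2.2) := by
    decide +kernel
  have hdiag : ∀ z w, z ≠ w → M z w = 0 := by
    intro z w hzw
    obtain ⟨Z, hZ⟩ := sep (z, w) hzw
    have h := congrFun (congrFun (hA' Z) z) w
    rw [j3A, Matrix.mul_diagonal, Matrix.diagonal_mul] at h
    by_contra hM
    refine hZ (mul_left_cancel₀ hM ?_)
    rw [h, mul_comm]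
  have hMd : M = Matrix.diagonal fun z => M z z := by
    funext z w
    rcases eq_or_ne z w with rfl | h
    · rw [Matrix.diagonal_apply_eq]
    · rw [Matrix.diagonal_apply_ne _ h, hdiag z w h]
  have hconst : ∀ z, M z z = M 0 0 := by
    intro z
    have h := congrFun (congrFun (hD' z) z) 0
    rw [hMd, Matrix.diagonal_mul, Matrix.mul_diagonal] at h
    have hne : j3D K K.w z z 0 ≠ 0 := trans_ne_zero z
    rw [mul_comm (j3D K K.w z z 0)] at h
    exact mul_right_cancel₀ hne h
  have hM : M = M 0 0 • (1 : Matrix F9 F9 K) := by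
    conv_lhs => rw [hMd]
    rw [Matrix.smul_one_eq_diagonal]
    exact congrArg Matrix.diagonal (funext hconst)
  have h0 : M 0 0 ≠ 0 := by
    intro h
    rw [h, zero_smul] at hM
    exact g.ne_zero hM
  exact ⟨M 0 0, h0, Units.ext (by rw [coe_scal h0]; exact hM)⟩

theorem mem_center_iff (g : T3) : g ∈ Subgroup.center T3 ↔ ∃ a : K, a ≠ 0 ∧ (g : GL F9 K) = scal a := by
  constructor
  · intro h
    have hc : ∀ n, n < 27 → Commute (g : GL F9 K) (uG n) := fun n hn =>
      (congrArg Subtype.val (Subgroup.mem_center_iff.mp h ⟨uG n, uG_mem (by omega) (by omega)⟩)).symm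
    exact eq_scal_of_commute (fun Z => hc _ (by have := idx_lt Z; omega)) (fun Z => hc _ (by have := idx_lt Z; omega))
  · rintro ⟨a, -, e⟩
    rw [show g = ⟨scal a, e ▸ g.2⟩ from Subtype.ext e]
    exact scal_central _

theorem rels_check : presJ3.rels.all (fun w => okProd (w.map mcols) oneCols ||
    okProd (w.map mcols) (oneCols.map (smulc 2)) || okProd (w.map mcols) (oneCols.map (smulc 3))) = true := by
  decide +kernel

theorem rel_scal {w : List ℕ} (hw : w ∈ presJ3.rels) :
    ∃ a : K, (((w.map elT).prod : T3) : GL F9 K) = scal a := by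
  have hcoe : (((w.map elT).prod : T3) : GL F9 K) = (w.map el).prod := by
    rw [← Subgroup.coe_subtype, map_list_prod, List.map_map]
    rfl
  have h := List.all_eq_true.mp rels_check w hw
  simp only [Bool.or_eq_true] at h
  rcases h with (h | h) | h
  · refine ⟨1, Units.ext ?_⟩
    rw [hcoe, coe_prod, prod_matC h, matC_one, coe_scal one_ne_zero, one_smul]
  · refine ⟨K.w, Units.ext ?_⟩
    rw [hcoe, coe_prod, prod_matC h, smul_matC (by norm_num) (by decide), matC_one, coe_scal (by decide)]
    rfl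
  · refine ⟨K.v, Units.ext ?_⟩
    rw [hcoe, coe_prod, prod_matC h, smul_matC (by norm_num) (by decide), matC_one, coe_scal (by decide)]
    rfl

/-- The image of a generator. -/
noncomputable def tau (x : ℕ) : Cfsg.Spor.J3 K K.w := QuotientGroup.mk' _ (elT x)

theorem tau_sq (x : ℕ) : tau x * tau x = 1 := by
  rw [tau, ← map_mul, show elT x * elT x = 1 from Subtype.ext (el_sq x), map_one]

theorem tau_prod (w : List ℕ) : (w.map tau).prod = QuotientGroup.mk' _ (w.map elT).prod := by
  rw [map_list_prod, List.map_map]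
  rfl

theorem tau_rel : ∀ w ∈ presJ3.rels, (w.map tau).prod = 1 := by
  intro w hw
  rw [tau_prod, QuotientGroup.mk'_apply, QuotientGroup.eq_one_iff]
  obtain ⟨a, ha⟩ := rel_scal hw
  rw [show (w.map elT).prod = (⟨scal a, scal_mem a⟩ : T3) from Subtype.ext ha]
  exact scal_central _

/-- The homomorphism from the presented group. -/
noncomputable def rep : presJ3.Grp →* Cfsg.Spor.J3 K K.w :=
  PresentedGroup.toGroup (f := tau ∘ presJ3.idx) (presJ3.lift_rel tau_sq tau_rel)

theorem rep_σ {x : ℕ} (hx : x < 4) : rep (presJ3.σ x) = tau x := by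
  rw [Pres.σ, if_pos (show x < presJ3.k from hx)]
  exact (PresentedGroup.toGroup.of _).trans (congrArg tau (J3Group.hid x hx))

theorem rep_word (w : List ℕ) (hw : ∀ x ∈ w, x < 4) :
    rep (w.map presJ3.σ).prod = QuotientGroup.mk' _ (w.map elT).prod := by
  rw [← tau_prod, map_list_prod, List.map_map]
  exact congrArg List.prod (List.map_congr_left fun x hx => rep_σ (hw x hx))

theorem rep_surjective : Function.Surjective rep := by
  intro q
  obtain ⟨g, rfl⟩ := QuotientGroup.mk'_surjective _ q
  obtain ⟨a, -, w, hw, e⟩ := exists_word g.2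
  refine ⟨(w.map presJ3.σ).prod, ?_⟩
  have hcoe : (((w.map elT).prod : T3) : GL F9 K) = (w.map el).prod := by
    rw [← Subgroup.coe_subtype, map_list_prod, List.map_map]
    rfl
  have hg : g = (⟨scal a, scal_mem a⟩ : T3) * (w.map elT).prod :=
    Subtype.ext (by rw [Subgroup.coe_mul, hcoe]; exact e)
  rw [rep_word w hw, hg, map_mul, show QuotientGroup.mk' _ (⟨scal a, scal_mem a⟩ : T3) = 1 from
    (QuotientGroup.eq_one_iff _).mpr (scal_central _), one_mul]

theorem el_zero_not_central : elT 0 ∉ Subgroup.center T3 := by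
  rw [mem_center_iff]
  rintro ⟨a, ha, e⟩
  have h := congrArg Units.val e
  rw [coe_scal ha] at h
  have key : ∀ a : K, ∃ p : F9 × F9, matC (mcols 0) p.1 p.2 ≠ (a • (1 : Matrix F9 F9 K)) p.1 p.2 := by
    decide +kernel
  obtain ⟨⟨z, w⟩, hzw⟩ := key a
  exact hzw (congrFun (congrFun h z) w)

theorem rep_injective : Function.Injective rep := by
  rw [← MonoidHom.ker_eq_bot_iff]
  refine (IsSimpleGroup.eq_bot_or_eq_top_of_normal rep.ker inferInstance).resolve_right fun h => ?_
  refine el_zero_not_central ((QuotientGroup.eq_one_iff _).mp ?_)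
  have h1 : presJ3.σ 0 ∈ rep.ker := h ▸ Subgroup.mem_top _
  rw [MonoidHom.mem_ker, rep_σ (by norm_num)] at h1
  exact h1

/-- The presented group is the matrix group modulo scalars. -/
noncomputable def iso : presJ3.Grp ≃* Cfsg.Spor.J3 K K.w := MulEquiv.ofBijective rep ⟨rep_injective, rep_surjective⟩

theorem card_center : Nat.card (Subgroup.center T3) = 3 := by
  have e : {a : K // a ≠ 0} ≃ Subgroup.center T3 := by
    refine Equiv.ofBijective (fun a => ⟨⟨scal a.1, scal_mem _⟩, scal_central _⟩) ⟨?_, ?_⟩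
    · intro a b h
      have h' : scal a.1 = scal b.1 := congrArg Subtype.val (congrArg Subtype.val h)
      have h'' := congrArg Units.val h'
      rw [coe_scal a.2, coe_scal b.2] at h''
      have := congrFun (congrFun h'' 0) 0
      simpa [Subtype.ext_iff] using this
    · intro g
      obtain ⟨a, ha, e⟩ := (mem_center_iff g.1).mp g.2
      exact ⟨⟨a, ha⟩, Subtype.ext (Subtype.ext e.symm)⟩
  rw [← Nat.card_congr e, Nat.card_eq_fintype_card]
  decide

theorem card_J3 : Nat.card (Cfsg.Spor.J3 K K.w) = 50232960 :=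
  (Nat.card_congr iso.toEquiv).symm.trans J3Group.card_eq

theorem simple_J3 : IsSimpleGroup (Cfsg.Spor.J3 K K.w) := iso.symm.isSimpleGroup

theorem card_T3 : Nat.card T3 = 150698880 := by
  have h := Subgroup.card_eq_card_quotient_mul_card_subgroup (Subgroup.center T3)
  rw [card_center, show Nat.card (T3 ⧸ Subgroup.center T3) = 50232960 from card_J3] at h
  omega

end CfsgLib.J3
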