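/-
Keys of the involutions of the third Janko group, listed by orbits of an element of order nineteen.
-/
import Cfsg.Agent.Lib.J3.Words
import Cfsg.Agent.Lib.J3.OutData

set_option autoImplicit false

namespace CfsgLib.J3

open CfsgLib.CosetEnum

/-- The conjugator with a given number. -/
noncomputable def conjOf (n : ℕ) : List ℕ :=
  repW (Nat.div n 19) ++ zPows.getD (Nat.mod n 19) []

/-- The key of the involution with a given number. -/
noncomputable def ikey (n : ℕ) : ℕ := Nat.succ (key ((conjOf n).reverse ++ 0 :: conjOf n))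

/-- Increasing keys above `prev` up to `last`. -/
noncomputable def incI (L : List ℕ) (prev last : ℕ) : Bool :=
  List.rec (motive := fun _ => ℕ → Bool) (fun p => Nat.ble p last)
    (fun n _ ih p => Nat.blt n 26163 && force (ikey n) fun c => Nat.blt p c && ih c) L prev

theorem incI_spec : ∀ (L : List ℕ) (prev last : ℕ), incI L prev last = true →
    prev ≤ last ∧ (∀ n ∈ L, n < 26163 ∧ prev < ikey n ∧ ikey n ≤ last) ∧
      L.Pairwise fun u v => ikey u < ikey v := by
  intro L
  induction L with
  | nil => intro prev last h; exact ⟨Nat.le_of_ble_eq_true h, by simp, List.Pairwise.nil⟩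
  | cons w L ih =>
    intro prev last h
    have h' : (Nat.blt w 26163 && force (ikey w) fun c => Nat.blt prev c && incI L c last) = true := h
    simp only [force_eq, Bool.and_eq_true, blt_iff] at h'
    obtain ⟨hl, hlt, hrest⟩ := h'
    obtain ⟨hle, hall, hp⟩ := ih _ _ hrest
    refine ⟨le_trans hlt.le hle, ?_, List.pairwise_cons.mpr ⟨fun v hv => (hall v hv).2.1, hp⟩⟩
    intro v hv
    rcases List.mem_cons.mp hv with rfl | hv
    · exact ⟨hl, hlt, hle⟩
    · exact ⟨(hall v hv).1, hlt.trans (hall v hv).2.1, (hall v hv).2.2⟩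

/-- A list with increasing keys above `prev` up to `last`. -/
def Incr (L : List ℕ) (prev last : ℕ) : Prop :=
  prev ≤ last ∧ (∀ n ∈ L, n < 26163 ∧ prev < ikey n ∧ ikey n ≤ last) ∧
    L.Pairwise fun u v => ikey u < ikey v

theorem Incr.append {L L' : List ℕ} {a b c : ℕ} (h : Incr L a b) (h' : Incr L' b c) : Incr (L ++ L') a c := by
  obtain ⟨hab, h1, h2⟩ := h
  obtain ⟨hbc, h3, h4⟩ := h'
  refine ⟨hab.trans hbc, fun n hn => ?_,
    List.pairwise_append.mpr ⟨h2, h4, fun u hu v hv => lt_of_le_of_lt (h1 u hu).2.2 (h3 v hv).2.1⟩⟩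
  rcases List.mem_append.mp hn with hn | hn
  · exact ⟨(h1 n hn).1, (h1 n hn).2.1, (h1 n hn).2.2.trans hbc⟩
  · exact ⟨(h3 n hn).1, hab.trans_lt (h3 n hn).2.1, (h3 n hn).2.2⟩

end CfsgLib.J3
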