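/-
Checks of the keys of the involutions of the third Janko group.
-/
import Cfsg.Agent.Lib.J3.OutKeys

set_option autoImplicit false
set_option maxRecDepth 1000000

namespace CfsgLib.J3

theorem invList0_ok : incI invList0 0 16190961012347 = true := by decide +kernel

theorem invList1_ok : incI invList1 16190961012347 67734192090146 = true := by decide +kernel

theorem invList2_ok : incI invList2 67734192090146 124332353406521 = true := by decide +kernel

theorem invList3_ok : incI invList3 124332353406521 184567391461636 = true := by decide +kernel

theorem invList4_ok : incI invList4 184567391461636 248044789131858 = true := by decide +kernel

theorem invList5_ok : incI invList5 248044789131858 312905638496611 = true := by decide +kernel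

end CfsgLib.J3
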