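/-
Checks of the keys of the involutions of the third Janko group.
-/
import Cfsg.Agent.Lib.J3.OutKeys

set_option autoImplicit false
set_option maxRecDepth 1000000

namespace CfsgLib.J3

theorem invList6_ok : incI invList6 312905638496611 373923031807643 = true := by decide +kernel

theorem invList7_ok : incI invList7 373923031807643 443228075606808 = true := by decide +kernel

theorem invList8_ok : incI invList8 443228075606808 507434584516077 = true := by decide +kernel

theorem invList9_ok : incI invList9 507434584516077 571873457448925 = true := by decide +kernel

theorem invList10_ok : incI invList10 571873457448925 638359964435178 = true := by decide +kernel

theorem invList11_ok : incI invList11 638359964435178 699913716339015 = true := by decide +kernel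

end CfsgLib.J3
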