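/-
Checks of the keys of the involutions of the third Janko group.
-/
import Cfsg.Agent.Lib.J3.OutKeys

set_option autoImplicit false
set_option maxRecDepth 1000000

namespace CfsgLib.J3

theorem invList12_ok : incI invList12 699913716339015 767108284673023 = true := by decide +kernel

theorem invList13_ok : incI invList13 767108284673023 838530917371162 = true := by decide +kernel

theorem invList14_ok : incI invList14 838530917371162 898852944135677 = true := by decide +kernel

theorem invList15_ok : incI invList15 898852944135677 966797414483778 = true := by decide +kernel

theorem invList16_ok : incI invList16 966797414483778 1033015239886803 = true := by decide +kernel

theorem invList17_ok : incI invList17 1033015239886803 1098708959989581 = true := by decide +kernel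

end CfsgLib.J3
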