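/-
Checks of the keys of the involutions of the third Janko group.
-/
import Cfsg.Agent.Lib.J3.OutKeys

set_option autoImplicit false
set_option maxRecDepth 1000000

namespace CfsgLib.J3

theorem invList18_ok : incI invList18 1098708959989581 1165180770649887 = true := by decide +kernel

theorem invList19_ok : incI invList19 1165180770649887 1233193899021730 = true := by decide +kernel

theorem invList20_ok : incI invList20 1233193899021730 1296566910242200 = true := by decide +kernel

theorem invList21_ok : incI invList21 1296566910242200 1357943845647915 = true := by decide +kernel

theorem invList22_ok : incI invList22 1357943845647915 1429069801223274 = true := by decide +kernel

theorem invList23_ok : incI invList23 1429069801223274 1501042891369780 = true := by decide +kernel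

end CfsgLib.J3
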