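/-
Checks of the keys of the involutions of the third Janko group.
-/
import Cfsg.Agent.Lib.J3.OutKeys

set_option autoImplicit false
set_option maxRecDepth 1000000

namespace CfsgLib.J3

theorem invList24_ok : incI invList24 1501042891369780 1566942740734031 = true := by decide +kernel

theorem invList25_ok : incI invList25 1566942740734031 1628030916775820 = true := by decide +kernel

theorem invList26_ok : incI invList26 1628030916775820 1694923653035609 = true := by decide +kernel

theorem invList27_ok : incI invList27 1694923653035609 1763074124976655 = true := by decide +kernel

theorem invList28_ok : incI invList28 1763074124976655 1829135258780759 = true := by decide +kernel

theorem invList29_ok : incI invList29 1829135258780759 1894236762173055 = true := by decide +kernel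

end CfsgLib.J3
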