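/-
Checks of the keys of the involutions of the third Janko group.
-/
import Cfsg.Agent.Lib.J3.OutKeys

set_option autoImplicit false
set_option maxRecDepth 1000000

namespace CfsgLib.J3

theorem invList30_ok : incI invList30 1894236762173055 1960459126644793 = true := by decide +kernel

theorem invList31_ok : incI invList31 1960459126644793 2028800962491875 = true := by decide +kernel

theorem invList32_ok : incI invList32 2028800962491875 2096456395191138 = true := by decide +kernel

theorem invList33_ok : incI invList33 2096456395191138 2159789237553102 = true := by decide +kernel

theorem invList34_ok : incI invList34 2159789237553102 2222355634384993 = true := by decide +kernel

theorem invList35_ok : incI invList35 2222355634384993 2290995981386368 = true := by decide +kernel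

end CfsgLib.J3
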