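/-
Checks of the keys of the involutions of the third Janko group.
-/
import Cfsg.Agent.Lib.J3.OutKeys

set_option autoImplicit false
set_option maxRecDepth 1000000

namespace CfsgLib.J3

theorem invList36_ok : incI invList36 2290995981386368 2365068515210372 = true := by decide +kernel

theorem invList37_ok : incI invList37 2365068515210372 2432864238081391 = true := by decide +kernel

theorem invList38_ok : incI invList38 2432864238081391 2497255601588822 = true := by decide +kernel

theorem invList39_ok : incI invList39 2497255601588822 2561943575896696 = true := by decide +kernel

theorem invList40_ok : incI invList40 2561943575896696 2628953817208674 = true := by decide +kernel

theorem invList41_ok : incI invList41 2628953817208674 2694942535176359 = true := by decide +kernel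

end CfsgLib.J3
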