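/-
Checks of the keys of the involutions of the third Janko group.
-/
import Cfsg.Agent.Lib.J3.OutKeys

set_option autoImplicit false
set_option maxRecDepth 1000000

namespace CfsgLib.J3

theorem invList42_ok : incI invList42 2694942535176359 2761017933849789 = true := by decide +kernel

theorem invList43_ok : incI invList43 2761017933849789 2828166862587358 = true := by decide +kernel

theorem invList44_ok : incI invList44 2828166862587358 2895296218401623 = true := by decide +kernel

theorem invList45_ok : incI invList45 2895296218401623 2962830457074142 = true := by decide +kernel

theorem invList46_ok : incI invList46 2962830457074142 3025885034215275 = true := by decide +kernel

theorem invList47_ok : incI invList47 3025885034215275 3095826017380736 = true := by decide +kernel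

end CfsgLib.J3
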