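/-
Checks of the keys of the involutions of the third Janko group.
-/
import Cfsg.Agent.Lib.J3.OutKeys

set_option autoImplicit false
set_option maxRecDepth 1000000

namespace CfsgLib.J3

theorem invList48_ok : incI invList48 3095826017380736 3164687634033490 = true := by decide +kernel

theorem invList49_ok : incI invList49 3164687634033490 3228546679146853 = true := by decide +kernel

theorem invList50_ok : incI invList50 3228546679146853 3296050152228877 = true := by decide +kernel

theorem invList51_ok : incI invList51 3296050152228877 3362308123256295 = true := by decide +kernel

theorem invList52_ok : incI invList52 3362308123256295 3384009007518307 = true := by decide +kernel

end CfsgLib.J3
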