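/-
Checks of the keys of the involutions of the third Janko group.
-/
import Cfsg.Agent.Lib.J3.InvCheck0
import Cfsg.Agent.Lib.J3.InvCheck1
import Cfsg.Agent.Lib.J3.InvCheck2
import Cfsg.Agent.Lib.J3.InvCheck3
import Cfsg.Agent.Lib.J3.InvCheck4
import Cfsg.Agent.Lib.J3.InvCheck5
import Cfsg.Agent.Lib.J3.InvCheck6
import Cfsg.Agent.Lib.J3.InvCheck7
import Cfsg.Agent.Lib.J3.InvCheck8

set_option autoImplicit false
set_option maxRecDepth 1000000

namespace CfsgLib.J3

/-- All involutions. -/
def invAll : List ℕ :=
  invList0 ++ (invList1 ++ (invList2 ++ (invList3 ++ (invList4 ++ (invList5 ++ (invList6 ++ (invList7 ++ (invList8 ++ (invList9 ++ (invList10 ++ (invList11 ++ (invList12 ++ (invList13 ++ (invList14 ++ (invList15 ++ (invList16 ++ (invList17 ++ (invList18 ++ (invList19 ++ (invList20 ++ (invList21 ++ (invList22 ++ (invList23 ++ (invList24 ++ (invList25 ++ (invList26 ++ (invList27 ++ (invList28 ++ (invList29 ++ (invList30 ++ (invList31 ++ (invList32 ++ (invList33 ++ (invList34 ++ (invList35 ++ (invList36 ++ (invList37 ++ (invList38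 ++ (invList39 ++ (invList40 ++ (invList41 ++ (invList42 ++ (invList43 ++ (invList44 ++ (invList45 ++ (invList46 ++ (invList47 ++ (invList48 ++ (invList49 ++ (invList50 ++ (invList51 ++ (invList52))))))))))))))))))))))))))))))))))))))))))))))))))))

theorem invAll_spec : Incr invAll 0 3384009007518307 :=
  Incr.append (incI_spec _ _ _ invList0_ok) (Incr.append (incI_spec _ _ _ invList1_ok) (Incr.append (incI_spec _ _ _ invList2_ok) (Incr.append (incI_spec _ _ _ invList3_ok) (Incr.append (incI_spec _ _ _ invList4_ok) (Incr.append (incI_spec _ _ _ invList5_ok) (Incr.append (incI_spec _ _ _ invList6_ok) (Incr.append (incI_spec _ _ _ invList7_ok) (Incr.append (incI_spec _ _ _ invList8_ok) (Incr.append (incI_spec _ _ _ invList9_ok) (Incr.append (incI_spec _ _ _ invList10_ok) (Incr.append (incI_spec _ _ _ invList11_ok) (Incr.append (incI_spec _ _ _ invList12_ok) (Incr.append (incI_spec _ _ _ invList13_ok) (Incr.append (incI_spec _ _ _ invList14_ok) (Incr.append (incI_spec _ _ _ invList15_ok) (Incr.append (incI_spec _ _ _ invList16_ok) (Incr.append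 (incI_spec _ _ _ invList17_ok) (Incr.append (incI_spec _ _ _ invList18_ok) (Incr.append (incI_spec _ _ _ invList19_ok) (Incr.append (incI_spec _ _ _ invList20_ok) (Incr.append (incI_spec _ _ _ invList21_ok) (Incr.append (incI_spec _ _ _ invList22_ok) (Incr.append (incI_spec _ _ _ invList23_ok) (Incr.append (incI_spec _ _ _ invList24_ok) (Incr.append (incI_spec _ _ _ invList25_ok) (Incr.append (incI_spec _ _ _ invList26_ok) (Incr.append (incI_spec _ _ _ invList27_ok) (Incr.append (incI_spec _ _ _ invList28_ok) (Incr.append (incI_spec _ _ _ invList29_ok) (Incr.append (incI_spec _ _ _ invList30_ok) (Incr.append (incI_spec _ _ _ invList31_ok) (Incr.append (incI_spec _ _ _ invList32_ok) (Incr.append (incI_spec _ _ _ invList33_ok) (Incr.append (incI_spec _ _ _ invList34_ok) (Incr.append (incI_spec _ _ _ invList35_ok) (Incr.append (incI_spec _ _ _ invList36_ok) (Incr.append (incI_spec _ _ _ invList37_ok) (Incr.append (incI_spec _ _ _ invList38_ok) (Incr.append (incI_spec _ _ _ invList39_ok) (Incr.append (incI_spec _ _ _ invList40_ok) (Incr.append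 (incI_spec _ _ _ invList41_ok) (Incr.append (incI_spec _ _ _ invList42_ok) (Incr.append (incI_spec _ _ _ invList43_ok) (Incr.append (incI_spec _ _ _ invList44_ok) (Incr.append (incI_spec _ _ _ invList45_ok) (Incr.append (incI_spec _ _ _ invList46_ok) (Incr.append (incI_spec _ _ _ invList47_ok) (Incr.append (incI_spec _ _ _ invList48_ok) (Incr.append (incI_spec _ _ _ invList49_ok) (Incr.append (incI_spec _ _ _ invList50_ok) (Incr.append (incI_spec _ _ _ invList51_ok) ((incI_spec _ _ _ invList52_ok)))))))))))))))))))))))))))))))))))))))))))))))))))))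

theorem invAll_length : invAll.length = 26163 := by decide +kernel

end CfsgLib.J3
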