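/-
Counting the isotropic vectors of the nine-dimensional unitary space over four elements.
-/
import Cfsg.Agent.Lib.J3.Packed

set_option autoImplicit false

namespace CfsgLib.J3

open CfsgLib.G24

/-- The number of vectors of length `n` with sum of cubes `s`. -/
def cubeCount : ℕ → K → ℕ
  | 0, s => if s = 0 then 1 else 0
  | n + 1, s => cubeCount n s + 3 * cubeCount n (s + 1)

theorem card_cube : ∀ (n : ℕ) (s : K),
    Fintype.card {v : Fin n → K // ∑ i, v i ^ 3 = s} = cubeCount n s := by
  intro n
  induction n with
  | zero =>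
    intro s
    rw [cubeCount]
    by_cases h : s = 0
    · subst h
      rw [if_pos rfl]
      exact Fintype.card_eq_one_iff.mpr ⟨⟨fun i => i.elim0, by simp⟩, fun v => Subtype.ext (funext fun i => i.elim0)⟩
    · rw [if_neg h]
      exact Fintype.card_eq_zero_iff.mpr ⟨fun v => h (by simpa using v.2.symm)⟩
  | succ n ih =>
    intro s
    let e : {v : Fin (n + 1) → K // ∑ i, v i ^ 3 = s} ≃ Σ a : K, {w : Fin n → K // ∑ i, w i ^ 3 = s + a ^ 3} :=
      { toFun := fun v => ⟨v.1 0, ⟨Fin.tail v.1, by
          have h := v.2
          rw [Fin.sum_univ_succ] at h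
          have key : ∀ a b c : K, a + b = c → b = c + a := by decide
          exact key _ _ _ h⟩⟩
        invFun := fun p => ⟨Fin.cons p.1 p.2.1, by
          rw [Fin.sum_univ_succ]
          simp only [Fin.cons_zero, Fin.cons_succ, p.2.2]
          have key : ∀ a c : K, a + (c + a) = c := by decide
          exact key _ _⟩
        left_inv := fun v => Subtype.ext (Fin.cons_self_tail v.1)
        right_inv := fun p => by
          obtain ⟨a, w, hw⟩ := p
          rfl }
    rw [Fintype.card_congr e, Fintype.card_sigma]
    simp only [ih]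
    have huniv : (Finset.univ : Finset K) = {K.o, K.i, K.w, K.v} := by decide
    rw [huniv, Finset.sum_insert (by decide), Finset.sum_insert (by decide), Finset.sum_insert (by decide),
      Finset.sum_singleton, cubeCount]
    have h0 : s + K.o ^ 3 = s := by revert s; decide
    have h1 : s + K.i ^ 3 = s + 1 := by revert s; decide
    have h2 : s + K.w ^ 3 = s + 1 := by revert s; decide
    have h3 : s + K.v ^ 3 = s + 1 := by revert s; decide
    rw [h0, h1, h2, h3]
    ring

theorem card_isotropic : Fintype.card {v : Cfsg.Spor.F9 → K // ∑ z, v z ^ 3 = 0} = 130816 := by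
  have e : {v : Cfsg.Spor.F9 → K // ∑ z, v z ^ 3 = 0} ≃ {v : Fin 9 → K // ∑ i, v i ^ 3 = 0} :=
    (idxEquiv.arrowCongr (Equiv.refl K)).subtypeEquiv fun v => by
      rw [Fintype.sum_equiv idxEquiv (fun z => v z ^ 3)
        (fun i => (idxEquiv.arrowCongr (Equiv.refl K) v) i ^ 3) fun z => ?_]
      simp
  rw [Fintype.card_congr e, card_cube]
  decide +kernel

end CfsgLib.J3
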