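/-
Certified orbits of lines under the triple cover of the third Janko group.
-/
import Cfsg.Agent.Lib.J3.Matrices

set_option autoImplicit false
set_option maxRecDepth 100000

namespace CfsgLib.J3

open Matrix CfsgLib.G24 CfsgLib.CosetEnum CfsgLib.CosetEnum.GF4Codes Cfsg.Spor

/-- An orbit of lines: packed points in increasing order, their images, and the first point. -/
structure Orb where
  /-- the number of points -/
  n : ℕ
  /-- the points, 48 bits each -/
  pts : Tree
  /-- the images, 72 bits each -/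
  img : Tree
  /-- the first point -/
  root : ℕ

namespace Orb

variable (O : Orb)

/-- The packed data of a point. -/
noncomputable def data (i : ℕ) : ℕ := entry O.pts (nat_lit 32) (nat_lit 48) i

/-- The vector of a point. -/
noncomputable def vec (i : ℕ) : ℕ := fld (O.data i) (nat_lit 0) (nat_lit 18)

/-- The rank of a point. -/
noncomputable def rank (i : ℕ) : ℕ := fld (O.data i) (nat_lit 34) (nat_lit 8)

/-- The packed image of a point under a letter. -/
noncomputable def image (i x : ℕ) : ℕ :=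
  fld (entry O.img (nat_lit 16) (nat_lit 72) i) (Nat.mul (nat_lit 18) x) (nat_lit 18)

/-- The check of one point. -/
noncomputable def okPt (i : ℕ) : Bool :=
  force i fun i => force (O.data i) fun e => force (fld e (nat_lit 0) (nat_lit 18)) fun v =>
  force (fld e (nat_lit 44) (nat_lit 4)) fun j =>
    Nat.blt j (nat_lit 9) && Nat.beq (fld v (nat_lit 0) (Nat.mul (nat_lit 2) j)) (nat_lit 0) &&
    Nat.beq (cd v j) (nat_lit 1) &&
    (Bool.rec true (Nat.blt v (O.vec (Nat.succ i))) (Nat.blt (Nat.succ i) O.n)) &&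
    allN (nat_lit 4) (fun x => force x fun x => force (O.image i x) fun t =>
      force (fld t (nat_lit 0) (nat_lit 16)) fun t' => force (fld t (nat_lit 16) (nat_lit 2)) fun c =>
        Nat.blt t' O.n && Nat.blt (nat_lit 0) c &&
        force (O.vec t') fun u => Nat.beq (apC (colsM.getD x oneCols) v) (smulc c u)) &&
    Bool.rec
      (force (fld e (nat_lit 18) (nat_lit 16)) fun p => force (fld e (nat_lit 42) (nat_lit 2)) fun g =>
        Nat.blt p O.n && Nat.blt (O.rank p) (fld e (nat_lit 34) (nat_lit 8)) &&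
          Nat.beq (fld (O.image p g) (nat_lit 0) (nat_lit 16)) i)
      true (Nat.beq i O.root)

/-- The check of some consecutive points. -/
noncomputable def okRange (lo m : ℕ) : Bool := allN m fun i => force (Nat.add lo i) fun d => O.okPt d

variable {O}

theorem okRange_sound {lo m : ℕ} (h : O.okRange lo m = true) :
    (∀ i < lo, O.okPt i = true) → ∀ i < lo + m, O.okPt i = true := by
  intro hlo i hi
  by_cases hi' : i < lo
  · exact hlo i hi'
  · have := allN_spec (f := fun i => force (Nat.add lo i) fun d => O.okPt d) h (i - lo) (by omega)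
    rwa [force_eq, show Nat.add lo (i - lo) = i by show lo + (i - lo) = i; omega] at this

variable (hok : ∀ i < O.n, O.okPt i = true)

include hok

theorem normal {i : ℕ} (hi : i < O.n) :
    ∃ j < 9, cd (O.vec i) j = 1 ∧ ∀ k < j, cd (O.vec i) k = 0 := by
  have h := hok i hi
  simp only [okPt, force_eq, Bool.and_eq_true, blt_iff] at h
  obtain ⟨⟨⟨⟨⟨hj, h0⟩, h1⟩, -⟩, -⟩, -⟩ := h
  refine ⟨_, hj, Nat.eq_of_beq_eq_true h1, fun k hk => ?_⟩
  have h0' := Nat.eq_of_beq_eq_true h0
  simp only [fld, Nat.shiftRight_zero] at h0'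
  show (O.vec i >>> (2 * k)) % 2 ^ 2 = 0
  rw [Nat.shiftRight_eq_div_pow]
  set j := fld (O.data i) 44 4
  have hd : 2 ^ (2 * j) ∣ O.vec i := Nat.dvd_of_mod_eq_zero h0'
  obtain ⟨m, hm⟩ := hd
  rw [hm, show 2 * j = 2 * k + (2 * (j - k - 1) + 2) by omega, pow_add, mul_assoc,
    Nat.mul_div_cancel_left _ (by positivity), pow_add, mul_comm (2 ^ (2 * (j - k - 1))), mul_assoc, Nat.mul_mod_right]

theorem step {i : ℕ} (hi : i < O.n) {x : ℕ} (hx : x < 4) :
    fld (O.image i x) 0 16 < O.n ∧ ∃ c : K, c ≠ 0 ∧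
      ((el x : GL F9 K) : Matrix F9 F9 K) *ᵥ dec (O.vec i) = c • dec (O.vec (fld (O.image i x) 0 16)) := by
  have h := hok i hi
  simp only [okPt, force_eq, Bool.and_eq_true, blt_iff] at h
  have hs := allN_spec h.1.2 x hx
  simp only [force_eq, Bool.and_eq_true, blt_iff] at hs
  obtain ⟨⟨ht, hc⟩, he⟩ := hs
  have hc4 : fld (O.image i x) 16 2 < 4 := by rw [fld]; exact Nat.mod_lt _ (by norm_num)
  refine ⟨ht, _, (toK_cinv _ hc4 hc).2.1, ?_⟩
  rw [← dec_smulc hc4]
  show matC (mcols x) *ᵥ dec (O.vec i) = _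
  have hlen : ∀ y < 4, (mcols y).length = 9 := by decide
  rw [← dec_apC (hlen x hx)]
  exact congrArg dec (Nat.eq_of_beq_eq_true he)

theorem parent {i : ℕ} (hi : i < O.n) (hr : i ≠ O.root) :
    ∃ p < O.n, ∃ x < 4, O.rank p < O.rank i ∧ fld (O.image p x) 0 16 = i := by
  have h := hok i hi
  simp only [okPt, force_eq, Bool.and_eq_true, blt_iff] at h
  have hb : Nat.beq i O.root = false := by
    cases hb : Nat.beq i O.root
    · rfl
    · exact absurd (Nat.eq_of_beq_eq_true hb) hr
  have h2 := h.2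
  rw [hb] at h2
  simp only [Bool.and_eq_true, blt_iff] at h2
  obtain ⟨⟨hp, hlt⟩, he⟩ := h2
  exact ⟨_, hp, _, by rw [fld]; exact Nat.mod_lt _ (by norm_num), hlt, Nat.eq_of_beq_eq_true he⟩

theorem vec_lt (i : ℕ) : O.vec i < 2 ^ 18 := by
  rw [vec, fld]
  exact Nat.mod_lt _ (by norm_num)

theorem mono {i j : ℕ} (hij : i < j) (hj : j < O.n) : O.vec i < O.vec j := by
  induction j with
  | zero => omega
  | succ j ih =>
    have h := hok j (by omega)
    simp only [okPt, force_eq, Bool.and_eq_true, blt_iff] at h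
    have hb : Nat.blt (Nat.succ j) O.n = true := blt_iff.mpr hj
    have h4 := h.1.1.2
    rw [hb] at h4
    have hjj : O.vec j < O.vec (j + 1) := blt_iff.mp h4
    rcases Nat.lt_or_ge i j with hlt | hge
    · exact (ih hlt (by omega)).trans hjj
    · rwa [show i = j by omega]

theorem dec_ne_zero {i : ℕ} (hi : i < O.n) : dec (O.vec i) ≠ 0 := by
  obtain ⟨j, hj, h1, -⟩ := normal hok hi
  intro h
  have := congrFun h (pt ⟨j, hj⟩)
  rw [dec, idx_pt, h1] at this
  exact absurd this (show toK 1 ≠ (0 : K) by decide)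

theorem line_injective {i k : ℕ} (hi : i < O.n) (hk : k < O.n) {c : K}
    (h : dec (O.vec i) = c • dec (O.vec k)) : i = k := by
  obtain ⟨a, ha, ha1, ha0⟩ := normal hok hi
  obtain ⟨b, hb, hb1, hb0⟩ := normal hok hk
  have e : ∀ q, ∀ hq : q < 9, toK (cd (O.vec i) q) = c * toK (cd (O.vec k) q) := fun q hq => by
    have := congrFun h (pt ⟨q, hq⟩)
    rwa [Pi.smul_apply, smul_eq_mul, dec, dec, idx_pt] at this
  have hab : a = b := by
    rcases lt_trichotomy a b with h' | h' | h'
    · have := e a ha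
      rw [ha1, hb0 a h', show toK 0 = (0 : K) from rfl, mul_zero] at this
      exact absurd this (by decide)
    · exact h'
    · have := e b hb
      rw [hb1, ha0 b h', show toK 1 = (1 : K) from rfl, mul_one] at this
      rw [← this, show toK 0 = (0 : K) from rfl, zero_smul] at h
      exact absurd h (dec_ne_zero hok hi)
  subst hab
  have hc : c = 1 := by
    have := e a ha
    rw [ha1, hb1, show toK 1 = (1 : K) from rfl, mul_one] at this
    exact this.symm
  rw [hc, one_smul] at h
  have hv := dec_injective (vec_lt hok i) (vec_lt hok k) h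
  rcases lt_trichotomy i k with h' | h' | h'
  · exact absurd hv (mono hok h' hk).ne
  · exact h'
  · exact absurd hv.symm (mono hok h' hi).ne

theorem word_image : ∀ w : List ℕ, (∀ x ∈ w, x < 4) → ∀ i < O.n, ∃ j < O.n, ∃ c : K, c ≠ 0 ∧
    (((w.map el).prod : GL F9 K) : Matrix F9 F9 K) *ᵥ dec (O.vec i) = c • dec (O.vec j) := by
  intro w
  induction w with
  | nil => intro _ i hi; exact ⟨i, hi, 1, one_ne_zero, by simp⟩
  | cons x w ih =>
    intro hw i hi
    obtain ⟨j, hj, c, hc, e⟩ := ih (fun y hy => hw y (List.mem_cons_of_mem _ hy)) i hi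
    obtain ⟨ht, d, hd, e'⟩ := step hok hj (hw x List.mem_cons_self)
    refine ⟨_, ht, c * d, mul_ne_zero hc hd, ?_⟩
    rw [List.map_cons, List.prod_cons, Units.val_mul, ← Matrix.mulVec_mulVec, e, Matrix.mulVec_smul, e', smul_smul]

theorem image_mem {g : GL F9 K} (hg : g ∈ threeJ3 K K.w) {i : ℕ} (hi : i < O.n) :
    ∃ j < O.n, ∃ c : K, c ≠ 0 ∧ (g : Matrix F9 F9 K) *ᵥ dec (O.vec i) = c • dec (O.vec j) := by
  obtain ⟨a, ha, w, hw, rfl⟩ := exists_word hg
  obtain ⟨j, hj, c, hc, e⟩ := word_image hok w hw i hi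
  refine ⟨j, hj, a * c, mul_ne_zero ha hc, ?_⟩
  rw [Units.val_mul, coe_scal ha, Matrix.smul_mul, one_mul, Matrix.smul_mulVec, e, smul_smul]

theorem reach (i : ℕ) (hi : i < O.n) : ∃ g ∈ threeJ3 K K.w, ∃ c : K, c ≠ 0 ∧
    (g : Matrix F9 F9 K) *ᵥ dec (O.vec O.root) = c • dec (O.vec i) := by
  induction hr : O.rank i using Nat.strong_induction_on generalizing i with
  | _ r ih =>
    by_cases he : i = O.root
    · exact ⟨1, one_mem _, 1, one_ne_zero, by subst he; simp⟩
    obtain ⟨p, hp, x, hx, hlt, e⟩ := parent hok hi he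
    obtain ⟨g, hg, c, hc, eg⟩ := ih _ (hr ▸ hlt) p hp rfl
    obtain ⟨-, d, hd, ed⟩ := step hok hp hx
    refine ⟨el x * g, mul_mem (el_mem x) hg, c * d, mul_ne_zero hc hd, ?_⟩
    rw [Units.val_mul, ← Matrix.mulVec_mulVec, eg, Matrix.mulVec_smul, ed, e, smul_smul]

end Orb

end CfsgLib.J3
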