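/-
An automorphism of the third Janko group is determined, up to inner ones, by the class of the image of an
element of order nineteen.
-/
import Cfsg.Agent.S2135
import Cfsg.Prelude.Def_KGroupFacts
import Cfsg.Agent.Lib.J3.InvAll

set_option autoImplicit false
set_option maxRecDepth 1000000

namespace CfsgLib.J3

open CfsgLib.CosetEnum

/-- The presented group. -/
abbrev G3 : Type := presJ3.Grp

/-- A word in two letters evaluated at two words. -/
def evW (z u R : List ℕ) : List ℕ := R.flatMap fun l => if l = 0 then z else u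

/-- A word in two letters evaluated at two elements. -/
noncomputable def evG (a b : G3) (R : List ℕ) : G3 := (R.map fun l => if l = 0 then a else b).prod

theorem wel_evW (z u R : List ℕ) : wel (evW z u R) = evG (wel z) (wel u) R := by
  induction R with
  | nil => rfl
  | cons l R ih =>
    show wel ((if l = 0 then z else u) ++ evW z u R) = (if l = 0 then wel z else wel u) * evG (wel z) (wel u) R
    rw [wel_append, ih]
    split_ifs <;> rfl

theorem map_evG (α : G3 →* G3) (a b : G3) (R : List ℕ) : α (evG a b R) = evG (α a) (α b) R := by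
  rw [evG, evG, map_list_prod, List.map_map]
  refine congrArg List.prod (List.map_congr_left fun l _ => ?_)
  show α (if l = 0 then a else b) = _
  split_ifs <;> rfl

/-- The element of order nineteen. -/
noncomputable def zE : G3 := wel zWord

/-- The involution. -/
noncomputable def tE : G3 := wel [0]

/-- The word of the involution of a representative. -/
def uWordOf (r : ℕ) : List ℕ := (repW r).reverse ++ 0 :: repW r

/-- The involution of a representative. -/
noncomputable def uE (r : ℕ) : G3 := wel (uWordOf r)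

theorem zPows_ok : ∀ k < 19, okLet (zPows.getD k []) = true ∧ okLet (List.replicate k zWord).flatten = true ∧
    key (zPows.getD k []) = key (List.replicate k zWord).flatten := by decide +kernel

theorem wel_pow (w : List ℕ) : ∀ k, wel (List.replicate k w).flatten = wel w ^ k := by
  intro k
  induction k with
  | zero => rw [pow_zero]; rfl
  | succ k ih => rw [List.replicate_succ, List.flatten_cons, wel_append, ih, pow_succ']

theorem wel_zPows {k : ℕ} (hk : k < 19) : wel (zPows.getD k []) = zE ^ k := by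
  obtain ⟨h1, h2, h3⟩ := zPows_ok k hk
  rw [eq_of_key h1 h2 h3, wel_pow]
  rfl

theorem zE_order : orderOf zE = 19 := by
  have : Fact (Nat.Prime 19) := ⟨by norm_num⟩
  refine orderOf_eq_prime ?_ ?_
  · rw [zE, ← wel_pow]
    exact (eq_of_key (by decide +kernel) (show okLet [] = true from rfl) (by decide +kernel)).trans wel_nil
  · intro h
    have := key_of_eq (show okLet zWord = true by decide +kernel) (show okLet [] = true from rfl)
      (h.trans wel_nil.symm)
    revert this
    decide +kernel

theorem conjOf_ok : ∀ r < 1377, okLet (repW r) = true := by decide +kernel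

theorem okLet_conjOf {n : ℕ} (hn : n < 26163) : okLet (conjOf n) = true := by
  have h1 := conjOf_ok (n / 19) (by omega)
  have h2 := (zPows_ok (n % 19) (Nat.mod_lt _ (by norm_num))).1
  simp only [conjOf, okLet, List.all_append, Bool.and_eq_true]
  exact ⟨h1, h2⟩

theorem okLet_sandwich {w : List ℕ} (hw : okLet w = true) : okLet (w.reverse ++ 0 :: w) = true := by
  simp only [okLet, List.all_eq_true, List.mem_append, List.mem_reverse, List.mem_cons] at hw ⊢
  rintro x (hx | rfl | hx)
  · exact hw x hx
  · decide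
  · exact hw x hx

theorem wel_sandwich (w : List ℕ) : wel (w.reverse ++ 0 :: w) = (wel w)⁻¹ * tE * wel w := by
  rw [show (0 :: w) = [0] ++ w from rfl, wel_append, wel_append, wel_reverse, ← mul_assoc]
  rfl

theorem inv_cases {x : G3} (hx : orderOf x = 2) : ∃ r < 1377, ∃ k < 19, x = (zE ^ k)⁻¹ * uE r * zE ^ k := by
  have : Finite G3 := J3Group.instFinite
  set e := MulEquiv.refl G3
  set C := Cfsg.Agent.S2135.C e with hC
  have hidx : C.index = 26163 := by
    have h := C.card_mul_index
    rw [Cfsg.Agent.S2135.card_C e J3Group.card_eq, J3Group.card_eq] at h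
    omega
  have hCt : ∀ g : G3, g ∈ C ↔ g * tE = tE * g := fun g => Cfsg.Agent.S2135.mem_C e
  obtain ⟨-, hall, hp⟩ := invAll_spec
  let f : Fin invAll.length → G3 ⧸ C := fun i => QuotientGroup.mk (wel (conjOf invAll[i.val]))⁻¹
  have hf : Function.Injective f := by
    intro i j h
    have h' := QuotientGroup.eq.mp h
    rw [inv_inv, hCt] at h'
    set a := wel (conjOf invAll[i.val])
    set b := wel (conjOf invAll[j.val])
    have hck : ikey invAll[i.val] = ikey invAll[j.val] := by
      refine congrArg Nat.succ (key_of_eq (okLet_sandwich (okLet_conjOf (hall _ (List.getElem_mem _)).1))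
        (okLet_sandwich (okLet_conjOf (hall _ (List.getElem_mem _)).1)) ?_)
      rw [wel_sandwich, wel_sandwich]
      calc a⁻¹ * tE * a = a⁻¹ * (tE * (a * b⁻¹)) * b := by group
        _ = a⁻¹ * (a * b⁻¹ * tE) * b := by rw [h']
        _ = b⁻¹ * tE * b := by group
    rw [List.pairwise_iff_getElem] at hp
    rcases lt_trichotomy i.val j.val with hij | hij | hij
    · exact absurd hck (hp i.val j.val i.2 j.2 hij).ne
    · exact Fin.ext hij
    · exact absurd hck.symm (hp j.val i.val j.2 i.2 hij).ne
  have hsurj : Function.Surjective f := by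
    refine ((Nat.bijective_iff_injective_and_card f).mpr ⟨hf, ?_⟩).2
    rw [Nat.card_fin, invAll_length, ← hidx]
    rfl
  obtain ⟨c, hc⟩ := isConj_iff.mp (Cfsg.Agent.S2135.conj_t e J3Group.card_eq hx)
  obtain ⟨i, hi⟩ := hsurj (QuotientGroup.mk c)
  have h' := QuotientGroup.eq.mp hi
  rw [inv_inv, hCt] at h'
  set n := invAll[i.val]
  have hn : n < 26163 := (hall _ (List.getElem_mem _)).1
  refine ⟨n / 19, by omega, n % 19, Nat.mod_lt _ (by norm_num), ?_⟩
  set a := wel (conjOf n) with ha
  have hx' : x = a⁻¹ * tE * a := by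
    calc x = c * tE * c⁻¹ := hc.symm
      _ = a⁻¹ * (a * c * tE) * c⁻¹ := by group
      _ = a⁻¹ * (tE * (a * c)) * c⁻¹ := by rw [h']
      _ = a⁻¹ * tE * a := by group
  rw [hx', ha, show conjOf n = repW (n / 19) ++ zPows.getD (n % 19) [] from rfl, wel_append,
    wel_zPows (Nat.mod_lt _ (by norm_num)), uE, uWordOf, wel_sandwich]
  group

theorem powConj_ok : ∀ k < 18, ((powConj.getD k (0, [])).1 = 1 ∨ (powConj.getD k (0, [])).1 = 2) ∧
    okLet (powConj.getD k (0, [])).2 = true ∧
    okLet ((powConj.getD k (0, [])).2.reverse ++ zPows.getD (powConj.getD k (0, [])).1 [] ++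
      (powConj.getD k (0, [])).2) = true ∧
    key ((powConj.getD k (0, [])).2.reverse ++ zPows.getD (powConj.getD k (0, [])).1 [] ++
      (powConj.getD k (0, [])).2) = key (zPows.getD (k + 1) []) := by
  decide +kernel

theorem nineteen_cases {x : G3} (hx : orderOf x = 19) : ∃ g : G3, x = g * zE * g⁻¹ ∨ x = g * zE ^ 2 * g⁻¹ := by
  classical
  have : Finite G3 := J3Group.instFinite
  have : Fact (Nat.Prime 19) := ⟨by norm_num⟩
  have hfac : (50232960 : ℕ).factorization 19 = 1 := by
    rw [show (50232960 : ℕ) = 19 * 2643840 by norm_num, Nat.factorization_mul (by norm_num) (by norm_num),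
      Finsupp.add_apply, Nat.Prime.factorization_self (by norm_num),
      Nat.factorization_eq_zero_of_not_dvd (show ¬(19 : ℕ) ∣ 2643840 by norm_num)]
  have hz : Nat.card (Subgroup.zpowers zE) = 19 ^ (Nat.card G3).factorization 19 := by
    rw [Nat.card_zpowers, zE_order, J3Group.card_eq, hfac, pow_one]
  let S : Sylow 19 G3 := Sylow.ofCard (Subgroup.zpowers zE) hz
  have hpx : IsPGroup 19 (Subgroup.zpowers x) := IsPGroup.of_card (n := 1) (by rw [Nat.card_zpowers, hx, pow_one])
  obtain ⟨T, hT⟩ := hpx.exists_le_sylow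
  obtain ⟨g, hg⟩ := MulAction.exists_smul_eq G3 T S
  have hxS : g * x * g⁻¹ ∈ Subgroup.zpowers zE := by
    have hxT : x ∈ (T : Subgroup G3) := hT (Subgroup.mem_zpowers x)
    have : g * x * g⁻¹ ∈ ((g • T : Sylow 19 G3) : Subgroup G3) := by
      rw [Sylow.coe_subgroup_smul, Subgroup.mem_smul_pointwise_iff_exists]
      exact ⟨x, hxT, by simp [MulAut.smul_def]⟩
    rw [hg] at this
    exact this
  obtain ⟨k, hk⟩ := (isOfFinOrder_of_finite zE).mem_powers_iff_mem_zpowers.mpr hxS
  have hk' : zE ^ (k % 19) = g * x * g⁻¹ := by rw [← zE_order, pow_mod_orderOf]; exact hk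
  have hne : k % 19 ≠ 0 := by
    intro h0
    rw [h0, pow_zero] at hk'
    have : x = 1 := conj_eq_one_iff.mp hk'.symm
    rw [this, orderOf_one] at hx
    norm_num at hx
  have hlt : k % 19 - 1 < 18 := by have := Nat.mod_lt k (show 0 < 19 by norm_num); omega
  obtain ⟨h1, h2, h3, h4⟩ := powConj_ok (k % 19 - 1) hlt
  set p := powConj.getD (k % 19 - 1) (0, [])
  rw [Nat.sub_add_cancel (Nat.one_le_iff_ne_zero.mpr hne)] at h4
  have he := eq_of_key h3 (zPows_ok _ (Nat.mod_lt _ (by norm_num))).1 h4
  rw [wel_append, wel_append, wel_reverse, wel_zPows (Nat.mod_lt _ (by norm_num)),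
    wel_zPows (show p.1 < 19 by omega), hk'] at he
  have hx2 : x = g⁻¹ * (wel p.2)⁻¹ * zE ^ p.1 * (g⁻¹ * (wel p.2)⁻¹)⁻¹ := by
    calc x = g⁻¹ * (g * x * g⁻¹) * g := by group
      _ = _ := by rw [← he]; group
  refine ⟨g⁻¹ * (wel p.2)⁻¹, ?_⟩
  rcases h1 with h | h <;> rw [h] at hx2
  · left; rwa [pow_one] at hx2
  · right; exact hx2

/-- The check that a representative is the right one or fails a relation. -/
noncomputable def okFail (e good : ℕ) (fail : List (List (ℕ × ℕ))) (r : ℕ) : Bool :=
  Nat.beq r good ||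
    (Nat.blt ((fail.getD (Nat.div r 40) []).getD (Nat.mod r 40) (0, 0)).1 4 &&
      force ([0, 1, 2, 4].getD ((fail.getD (Nat.div r 40) []).getD (Nat.mod r 40) (0, 0)).2 0) fun d =>
        Nat.blt d 6156 && okLet (evW (zPows.getD e []) (uWordOf r) (pairRels.getD ((fail.getD (Nat.div r 40) []).getD (Nat.mod r 40) (0, 0)).1 [])) &&
        !(Nat.beq (runT J6156.table 4
          (evW (zPows.getD e []) (uWordOf r) (pairRels.getD ((fail.getD (Nat.div r 40) []).getD (Nat.mod r 40) (0, 0)).1 [])).reverse d) d))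

theorem failOne_ok : allN 1377 (fun r => force r (okFail 1 0 failOne)) = true := by decide +kernel

theorem failTwo_ok : allN 1377 (fun r => force r (okFail 2 43 failTwo)) = true := by decide +kernel

theorem pairRels_ok : ∀ j < 4, okLet (evW zWord [0] (pairRels.getD j [])) = true ∧
    key (evW zWord [0] (pairRels.getD j [])) = key [] := by decide +kernel

theorem unique_rep {e good : ℕ} {fail : List (List (ℕ × ℕ))} (he : e < 19)
    (hok : allN 1377 (fun r => force r (okFail e good fail)) = true) (β : MulAut G3) (hz : β zE = zE ^ e)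
    {r : ℕ} (hr : r < 1377) (hu : β tE = uE r) : r = good := by
  have h := allN_spec hok r hr
  rw [force_eq] at h
  simp only [okFail, force_eq, Bool.or_eq_true, Bool.and_eq_true, blt_iff, Bool.not_eq_true'] at h
  rcases h with h | ⟨hj, ⟨hd, hlet⟩, hmove⟩
  · exact Nat.eq_of_beq_eq_true h
  exfalso
  set R := pairRels.getD ((fail.getD (Nat.div r 40) []).getD (Nat.mod r 40) (0, 0)).1 []
  set d := [0, 1, 2, 4].getD ((fail.getD (Nat.div r 40) []).getD (Nat.mod r 40) (0, 0)).2 0
  obtain ⟨hl, hk⟩ := pairRels_ok _ hj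
  have h1 : evG zE tE R = 1 := by
    rw [zE, tE, ← wel_evW, eq_of_key hl (show okLet [] = true from rfl) hk, wel_nil]
  have h2 : evG (zE ^ e) (uE r) R = 1 := by
    rw [← hz, ← hu]
    exact (map_evG β.toMonoidHom zE tE R).symm.trans ((congrArg β h1).trans (map_one β))
  rw [← wel_zPows he, uE, ← wel_evW] at h2
  have h3 := act_wel hlet ⟨d, hd⟩
  rw [h2, map_one, Equiv.Perm.one_apply] at h3
  exact Nat.ne_of_beq_eq_false hmove h3.symm

theorem gens_ok : ∀ x < 4, okLet (evW zWord [0] (pairGens.getD x [])) = true ∧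
    key (evW zWord [0] (pairGens.getD x [])) = key [x] := by decide +kernel

theorem eq_of_pair {f g : MulAut G3} (hz : f zE = g zE) (ht : f tE = g tE) : f = g := by
  have hgen : ∀ x < 4, f (presJ3.σ x) = g (presJ3.σ x) := by
    intro x hx
    obtain ⟨hl, hk⟩ := gens_ok x hx
    have hlx : okLet [x] = true := by simp [okLet, hx]
    have h1 := eq_of_key hl hlx hk
    rw [wel_evW] at h1
    have h2 : wel [x] = presJ3.σ x := by simp [wel]
    rw [← h2, ← h1, show zE = wel zWord from rfl] at *
    show f.toMonoidHom _ = g.toMonoidHom _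
    rw [map_evG, map_evG]
    congr 1
  have h : ∀ y ∈ Subgroup.closure (presJ3.σ '' Set.Iio presJ3.k), f y = g y := by
    intro y hy
    induction hy using Subgroup.closure_induction with
    | mem a ha => obtain ⟨x, hx, rfl⟩ := ha; exact hgen x hx
    | one => rw [map_one, map_one]
    | mul a b _ _ ha hb => rw [map_mul, map_mul, ha, hb]
    | inv a _ ha => rw [map_inv, map_inv, ha]
  exact MulEquiv.ext fun y => h y (presJ3.gen_closure ▸ Subgroup.mem_top y)

/-- An automorphism is an inner one times one of at most two fixed ones. -/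
theorem normal_form (α : MulAut G3) : ∃ g : G3,
    ((MulAut.conj g * α) zE = zE ∧ (MulAut.conj g * α) tE = uE 0) ∨
      ((MulAut.conj g * α) zE = zE ^ 2 ∧ (MulAut.conj g * α) tE = uE 43) := by
  have capp : ∀ (g : G3) (β : MulAut G3) (x : G3), (MulAut.conj g * β) x = g * β x * g⁻¹ := fun g β x => rfl
  have ht : orderOf tE = 2 := Cfsg.Agent.S2135.orderOf_t (MulEquiv.refl G3)
  obtain ⟨g, hg⟩ := nineteen_cases ((MulEquiv.orderOf_eq α zE).trans zE_order)
  obtain ⟨e, good, fail, hok, he, hcase, hz⟩ : ∃ e good fail,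
      allN 1377 (fun r => force r (okFail e good fail)) = true ∧ e < 19 ∧
      (e = 1 ∧ good = 0 ∨ e = 2 ∧ good = 43) ∧ (MulAut.conj g⁻¹ * α) zE = zE ^ e := by
    rcases hg with hg | hg
    · exact ⟨1, 0, _, failOne_ok, by norm_num, Or.inl ⟨rfl, rfl⟩, by rw [capp, hg]; group⟩
    · exact ⟨2, 43, _, failTwo_ok, by norm_num, Or.inr ⟨rfl, rfl⟩, by rw [capp, hg]; group⟩
  set α1 := MulAut.conj g⁻¹ * α
  obtain ⟨r, hr, k, hk, hu⟩ := inv_cases ((MulEquiv.orderOf_eq α1 tE).trans ht)
  set β := MulAut.conj (zE ^ k) * α1 with hβ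
  have hbz : β zE = zE ^ e := by
    rw [hβ, capp, hz, ← pow_add, Nat.add_comm, pow_add, mul_inv_cancel_right]
  have hbt : β tE = uE r := by rw [hβ, capp, hu]; group
  have hrg := unique_rep he hok β hbz hr hbt
  subst hrg
  refine ⟨zE ^ k * g⁻¹, ?_⟩
  rw [map_mul, mul_assoc]
  rcases hcase with ⟨rfl, hgood⟩ | ⟨rfl, hgood⟩ <;> rw [hgood] at hbt
  · exact Or.inl ⟨hbz.trans (pow_one zE), hbt⟩
  · exact Or.inr ⟨hbz, hbt⟩

theorem card_out_le : Finite (Cfsg.Out G3) ∧ Nat.card (Cfsg.Out G3) ≤ 2 := by
  classical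
  choose gg hgg using normal_form
  let f : MulAut G3 → Bool := fun α => decide ((MulAut.conj (gg α) * α) zE = zE)
  have hinner : ∀ (g : G3) (β : MulAut G3),
      (QuotientGroup.mk (MulAut.conj g * β) : Cfsg.Out G3) = QuotientGroup.mk β := fun g β => by
    rw [QuotientGroup.mk_mul, show (QuotientGroup.mk (MulAut.conj g) : Cfsg.Out G3) = 1 from
      (QuotientGroup.eq_one_iff _).mpr ⟨g, rfl⟩, one_mul]
  have key : ∀ α β : MulAut G3, f α = f β → (QuotientGroup.mk α : Cfsg.Out G3) = QuotientGroup.mk β := by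
    intro α β h
    rw [← hinner (gg α) α, ← hinner (gg β) β]
    congr 1
    have hne : (zE ^ 2 : G3) ≠ zE := by
      intro h2
      have h3 : zE = 1 := by
        rw [pow_two] at h2
        exact mul_left_cancel (h2.trans (mul_one zE).symm)
      have := zE_order
      rw [h3, orderOf_one] at this
      norm_num at this
    simp only [f, decide_eq_decide] at h
    rcases hgg α with ⟨a1, a2⟩ | ⟨a1, a2⟩ <;> rcases hgg β with ⟨b1, b2⟩ | ⟨b1, b2⟩
    · exact eq_of_pair (a1.trans b1.symm) (a2.trans b2.symm)
    · exact absurd (b1.symm.trans (h.mp a1)) hne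
    · exact absurd (a1.symm.trans (h.mpr b1)) hne
    · exact eq_of_pair (a1.trans b1.symm) (a2.trans b2.symm)
  let F : Cfsg.Out G3 → Bool := fun q => f q.out
  have hF : Function.Injective F := fun p q h => by
    rw [← QuotientGroup.out_eq' p, ← QuotientGroup.out_eq' q]
    exact key _ _ h
  exact ⟨Finite.of_injective F hF, (Nat.card_le_card_of_injective F hF).trans (le_of_eq (by simp))⟩

end CfsgLib.J3
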