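/-
The field automorphism gives an outer automorphism of the third Janko group.
-/
import Cfsg.Agent.Lib.J3.OutBound

set_option autoImplicit false
set_option maxRecDepth 1000000

namespace CfsgLib.J3

open Matrix CfsgLib.G24 CfsgLib.CosetEnum CfsgLib.CosetEnum.GF4Codes Cfsg.Spor

/-- Complex conjugation of the index field. -/
def conjPt : F9 ≃ F9 where
  toFun z := (z.1, -z.2)
  invFun z := (z.1, -z.2)
  left_inv z := by simp
  right_inv z := by simp

/-- The field automorphism composed with conjugation of the indices. -/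
def tauMat : Matrix F9 F9 K ≃* Matrix F9 F9 K :=
  (Matrix.reindexAlgEquiv K K conjPt).toMulEquiv.trans frob.mapMatrix.toMulEquiv

/-- The same on invertible matrices. -/
def tauGL : GL F9 K ≃* GL F9 K := Units.mapEquiv tauMat

theorem tauMat_tauMat (M : Matrix F9 F9 K) : tauMat (tauMat M) = M := by
  funext z w
  show frob (frob (M (conjPt.symm (conjPt.symm z)) (conjPt.symm (conjPt.symm w)))) = M z w
  rw [show conjPt.symm (conjPt.symm z) = z from conjPt.left_inv z,
    show conjPt.symm (conjPt.symm w) = w from conjPt.left_inv w]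
  exact frob.left_inv _

theorem frobWords_ok : ∀ x < 4, (Nat.blt 0 (frobWords.getD x ([], 1)).2 && Nat.blt (frobWords.getD x ([], 1)).2 4 &&
    okProd ((frobWords.getD x ([], 1)).1.map mcols)
      ((frobCols.getD x oneCols).map (smulc (cinv (frobWords.getD x ([], 1)).2))) &&
    Nat.beq (frobCols.getD x oneCols).length 9) = true := by
  decide +kernel

theorem frobCols_ok : ∀ x : Fin 4, ∀ p : F9 × F9,
    tauMat (matC (mcols x.val)) p.1 p.2 = matC (frobCols.getD x.val oneCols) p.1 p.2 := by
  decide +kernel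

theorem tau_el_mem (x : ℕ) : tauGL (el x) ∈ T3 := by
  by_cases hx : x < 4
  swap
  · rw [show el x = 1 from Units.ext (by show matC (mcols x) = 1; rw [mcols_default hx, matC_one]), map_one]
    exact one_mem _
  have h := frobWords_ok x hx
  simp only [Bool.and_eq_true, blt_iff] at h
  obtain ⟨⟨⟨h0, h4⟩, hp⟩, hlen⟩ := h
  have e : tauGL (el x) = uWord (frobWords.getD x ([], 1)) := by
    refine Units.ext ?_
    rw [uWord, Units.val_mul, coe_prod, coe_scal (toK_cinv _ h4 h0).2.1, prod_matC hp, Matrix.smul_mul, one_mul,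
      smul_back h0 h4 (Nat.eq_of_beq_eq_true hlen)]
    exact Matrix.ext fun z w => frobCols_ok ⟨x, hx⟩ (z, w)
  rw [e]
  exact mul_mem (scal_mem _) (Subgroup.list_prod_mem _ fun a ha => by
    obtain ⟨y, -, rfl⟩ := List.mem_map.mp ha
    exact el_mem y)

theorem tau_scal (a : K) : tauGL (scal a) = scal (frob a) := by
  by_cases ha : a = 0
  · subst ha
    rw [map_zero, scal, dif_pos rfl, map_one]
  · refine Units.ext ?_
    show tauMat ((scal a : GL F9 K) : Matrix F9 F9 K) = _
    rw [coe_scal ha, coe_scal ((map_ne_zero frob).mpr ha)]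
    funext z w
    show frob ((a • (1 : Matrix F9 F9 K)) (conjPt.symm z) (conjPt.symm w)) = _
    rcases eq_or_ne z w with rfl | h
    · simp
    · simp [Matrix.one_apply_ne h, Matrix.one_apply_ne (conjPt.symm.injective.ne h)]

theorem tau_mem {g : GL F9 K} (hg : g ∈ T3) : tauGL g ∈ T3 :=
  le_of_mem (S := T3.comap tauGL.toMonoidHom) tau_el_mem
    (fun a => by show tauGL (scal a) ∈ T3; rw [tau_scal]; exact scal_mem _) hg

/-- The automorphism of the triple cover. -/
noncomputable def tauT : MulAut T3 where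
  toFun g := ⟨tauGL g, tau_mem g.2⟩
  invFun g := ⟨tauGL g, tau_mem g.2⟩
  left_inv g := Subtype.ext (Units.ext (tauMat_tauMat _))
  right_inv g := Subtype.ext (Units.ext (tauMat_tauMat _))
  map_mul' g h := Subtype.ext (map_mul tauGL _ _)

/-- The automorphism of the simple group. -/
noncomputable def tauJ : MulAut (Cfsg.Spor.J3 K K.w) := QuotientGroup.congr _ _ tauT (map_center tauT)

/-- The lift of the element of order nineteen. -/
noncomputable def zT : T3 := ⟨scal (toK 2) * (zWord.map el).prod,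
  mul_mem (scal_mem _) (Subgroup.list_prod_mem _ fun a ha => by
    obtain ⟨y, -, rfl⟩ := List.mem_map.mp ha
    exact el_mem y)⟩

theorem coe_zT : ((zT : GL F9 K) : Matrix F9 F9 K) = matC zCols := by
  have h : okProd (zWord.map mcols) (zCols.map (smulc (cinv 2))) = true := by decide +kernel
  show ((scal (toK 2) * (zWord.map el).prod : GL F9 K) : Matrix F9 F9 K) = _
  rw [Units.val_mul, coe_prod, coe_scal (by decide), prod_matC h, Matrix.smul_mul, one_mul,
    smul_back (by norm_num) (by norm_num) (by decide)]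

theorem zT_pow : zT ^ 19 = 1 := by
  have h : okProd (List.replicate 19 zCols) oneCols = true := by decide +kernel
  refine Subtype.ext (Units.ext ?_)
  rw [Subgroup.coe_pow, Units.val_pow_eq_pow_val, coe_zT]
  have h' := prod_matC h
  rw [List.map_replicate, List.prod_replicate, matC_one] at h'
  exact h'

theorem trace_zT : (∑ z, matC zCols z z) = K.v := by decide +kernel

theorem tauJ_not_inner (g : Cfsg.Spor.J3 K K.w) : MulAut.conj g ≠ tauJ := by
  intro h
  obtain ⟨g', rfl⟩ := QuotientGroup.mk'_surjective _ g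
  have h1 : MulAut.conj (QuotientGroup.mk' _ g') (QuotientGroup.mk' (Subgroup.center T3) zT) =
      QuotientGroup.mk' _ (tauT zT) := by
    rw [h]; rfl
  have h2 : (g' * zT * g'⁻¹)⁻¹ * tauT zT ∈ Subgroup.center T3 := by
    rw [← QuotientGroup.eq]
    exact h1
  set c := (g' * zT * g'⁻¹)⁻¹ * tauT zT with hc
  have h3 : tauT zT = g' * zT * g'⁻¹ * c := by rw [hc]; group
  obtain ⟨a, ha, hac⟩ := (mem_center_iff c).mp h2
  have hcomm : Commute (g' * zT * g'⁻¹) c := Subgroup.mem_center_iff.mp h2 _
  have h19 : c ^ 19 = 1 := by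
    have := congrArg (fun t => t ^ 19) h3
    simp only [hcomm.mul_pow, conj_pow, ← map_pow, zT_pow, map_one, mul_one, mul_inv_cancel, one_mul] at this
    exact this.symm
  have ha1 : a = 1 := by
    have h' := congrArg (fun t : T3 => ((t : GL F9 K) : Matrix F9 F9 K) 0 0) h19
    simp only [Subgroup.coe_pow, Units.val_pow_eq_pow_val, hac, coe_scal ha, smul_pow, one_pow,
      Matrix.smul_apply, Matrix.one_apply_eq, smul_eq_mul, mul_one, Subgroup.coe_one, Units.val_one] at h'
    have key : ∀ a : K, a ≠ 0 → a ^ 19 = 1 → a = 1 := by decide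
    exact key a ha h'
  have hc1 : c = 1 := Subtype.ext (by
    rw [hac, ha1]
    exact Units.ext (by rw [coe_scal one_ne_zero, one_smul]; rfl))
  rw [hc1, mul_one] at h3
  have h4 := congrArg (fun t : T3 => Matrix.trace ((t : GL F9 K) : Matrix F9 F9 K)) h3
  simp only [Subgroup.coe_mul, Units.val_mul, Subgroup.coe_inv] at h4
  rw [Matrix.trace_mul_cycle, Units.inv_mul, one_mul, coe_zT] at h4
  have h5 : Matrix.trace ((tauT zT : GL F9 K) : Matrix F9 F9 K) = frob K.v := by
    show Matrix.trace (tauMat ((zT : GL F9 K) : Matrix F9 F9 K)) = _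
    rw [coe_zT, ← trace_zT, map_sum]
    exact Fintype.sum_equiv conjPt.symm _ _ fun z => rfl
  rw [h5, show Matrix.trace (matC zCols) = K.v from trace_zT] at h4
  revert h4
  decide

theorem card_out : Nat.card (Cfsg.Out (Cfsg.Spor.J3 K K.w)) = 2 := by
  let e : Cfsg.Out G3 ≃* Cfsg.Out (Cfsg.Spor.J3 K K.w) := QuotientGroup.congr _ _ (MulAut.congr iso) (by
    ext b
    constructor
    · rintro ⟨_, ⟨g, rfl⟩, rfl⟩
      exact ⟨iso g, MulEquiv.ext fun x => by simp [MulAut.congr]⟩
    · rintro ⟨g, rfl⟩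
      exact ⟨MulAut.conj (iso.symm g), ⟨_, rfl⟩, MulEquiv.ext fun x => by simp [MulAut.congr]⟩)
  obtain ⟨hfin, hle⟩ := card_out_le
  have : Finite (Cfsg.Out (Cfsg.Spor.J3 K K.w)) := Finite.of_equiv _ e.toEquiv
  refine le_antisymm ((Nat.card_congr e.toEquiv).symm.le.trans hle) ?_
  have hne : (QuotientGroup.mk tauJ : Cfsg.Out (Cfsg.Spor.J3 K K.w)) ≠ 1 := fun h => by
    obtain ⟨g, hg⟩ := (QuotientGroup.eq_one_iff _).mp h
    exact tauJ_not_inner g hg
  have : Nontrivial (Cfsg.Out (Cfsg.Spor.J3 K K.w)) := ⟨⟨_, 1, hne⟩⟩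
  exact Finite.one_lt_card

end CfsgLib.J3
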